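import Cfsg.Agent.KFacts.TwoSix.Sheet
import Cfsg.Agent.SporadicRecognition.HeldInv
import Cfsg.Agent.H4.Small_m3
import Cfsg.Agent.PermParts.Consumer_m3
import Cfsg.Agent.Lib.SylowNormalInf
import Cfsg.Prelude.Def_QuasithinSetup
import Cfsg.Agent.H5.Small
import Cfsg.Agent.KFacts.He.TwoA_m3
import Cfsg.Agent.Held.HeldCardEq_m3
import Cfsg.Agent.HoltZ.CentHe
import Cfsg.Agent.FastGrp
import Cfsg.Agent.Prune
set_option linter.all false

section
prune_inst 0x7ffcfcfbaff8addfffff7e7ffffddffdfdf8ffffffdffbcbffe5efff0fdf4b6bfbd5fb8f9fef50fd9ef6e294b0f87bd3f9ffdeffee6bfc7ffffd5ff45ffbff9fffffbd8c51dfb8be1ffe6ffffbf97fee7f3fffffffffffffffffffffffffffffffffffffffff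

-- part: H6/He/Over
section
prune_inst 0x101001004520000000000000200000003000000200030000000001020048404000020600080024100002800000000060001000000000000000008000000400000400020000400000010000006000000000000000000000000000000000000000000000000
set_option linter.all false
open scoped Cfsg.Agent.FastGrp

-- part: H6/He/Elt
section
/-!
# Normal elementary abelian subgroups of the unitriangular group `T0` of degree 5 containing `zz` (helper6)

`Nrm A`: `A ≤ T0` is normalised by `T0` and has exponent 2.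
* `Nrm.le_or`: if `A` has no element with entry `(0, 1)` or `(3, 4)`, then `A ≤ V1` or `A ≤ V2`;
* `Nrm.QQ_of`: elements with entry `(0, 1)` lie in `QQ`;  `Nrm.R1_le`: if one of them lies in `R1`, then `R1 ≤ A`;
* `Nrm.dich`: `A ≤ V1`: `C_CC(A)` normalises `V1`, or `A = ⟨x03, x04⟩`.
-/

set_option autoImplicit false

namespace Cfsg.Agent.H6.HeElt

open Cfsg.Agent.SporadicRecognition.HeldModel Cfsg.Agent.KFacts.TwoSix.Base Cfsg.Agent.KFacts.TwoSix.Facts
open Cfsg.Agent.Lib.F2Mat Cfsg.Agent.KFacts.TwoSix.U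

abbrev mt (g : L5) : Matrix (Fin 5) (Fin 5) (ZMod 2) := (g : Matrix (Fin 5) (Fin 5) (ZMod 2))

/-! ### Entries -/

theorem CC_col {g : L5} (hg : g ∈ CC) {i : Fin 5} (hi : i ≠ 0) : mt g i 0 = 0 := by
  have h := CC_entry hg (i := i) (j := 0) (by simp [PC])
  rwa [Matrix.one_apply_ne hi] at h

theorem CC_00 {g : L5} (hg : g ∈ CC) : mt g 0 0 = 1 := by
  have h := CC_entry hg (i := 0) (j := 0) (by simp [PC])
  rwa [Matrix.one_apply_eq] at h

theorem CC_row {g : L5} (hg : g ∈ CC) {j : Fin 5} (hj : j ≠ 4) : mt g 4 j = 0 := by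
  have h := CC_entry hg (i := 4) (j := j) (by simp [PC])
  rwa [Matrix.one_apply_ne (Ne.symm hj)] at h

theorem pat_entry {P : Fin 5 → Fin 5 → Bool} {g : L5} (hg : Pat P g) {i j : Fin 5} (h : P i j = false) :
    mt g i j = (1 : Matrix (Fin 5) (Fin 5) (ZMod 2)) i j := by
  have := hg i j h
  rwa [Matrix.sub_apply, sub_eq_zero] at this

theorem V1_entry {g : L5} (hg : g ∈ V1) {i j : Fin 5} (h : PV1 i j = false) :
    mt g i j = (1 : Matrix (Fin 5) (Fin 5) (ZMod 2)) i j := pat_entry hg h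

theorem mul_entry {g u : L5} (hc : g * u = u * g) (i j : Fin 5) : (mt g * mt u) i j = (mt u * mt g) i j := by
  have h1 : mt (g * u) = mt (u * g) := by rw [hc]
  have h2 : mt (g * u) = mt g * mt u := rfl
  have h3 : mt (u * g) = mt u * mt g := rfl
  rw [← h2, ← h3, h1]

/-- the entries `(2, 1)` and `(3, 1)` vanish -/
def Up (g : L5) : Prop := mt g 2 1 = 0 ∧ mt g 3 1 = 0

theorem low_zero {g : L5} (hg : g ∈ CC) (h : Up g) {i j : Fin 5} (hi : 2 ≤ i) (hj : j ≤ 1) : mt g i j = 0 := by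
  have hj' : j = 0 ∨ j = 1 := by revert hj; revert j; decide
  rcases hj' with rfl | rfl
  · exact CC_col hg (by rintro rfl; exact absurd hi (by decide))
  · have hi' : i = 2 ∨ i = 3 ∨ i = 4 := by revert hi; revert i; decide
    rcases hi' with rfl | rfl | rfl
    · exact h.1
    · exact h.2
    · exact CC_row hg (by decide)

theorem conj_sub (g v : L5) : mt (g * v * g⁻¹) - 1 = mt g * (mt v - 1) * mt g⁻¹ := by
  have h1 : mt (g * v * g⁻¹) = mt g * mt v * mt g⁻¹ := rfl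
  have h2 : mt g * mt g⁻¹ = 1 := by
    calc mt g * mt g⁻¹ = mt (g * g⁻¹) := rfl
      _ = mt 1 := by rw [mul_inv_cancel]
      _ = 1 := rfl
  rw [h1, mul_sub, sub_mul, mul_one, h2]

/-- block upper triangular elements of `CC` normalise `V1` -/
theorem conj_V1 {g v : L5} (hg : g ∈ CC) (h1 : Up g) (h2 : Up g⁻¹) (hv : v ∈ V1) : g * v * g⁻¹ ∈ V1 := by
  intro i j hij
  rw [← mt, conj_sub, Matrix.mul_apply]
  apply Finset.sum_eq_zero
  intro l _
  by_cases hl : l ≤ 1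
  · have h3 : (mt g * (mt v - 1)) i l = 0 := by
      rw [Matrix.mul_apply]
      apply Finset.sum_eq_zero
      intro k _
      have h4 : (mt v - 1) k l = 0 := hv k l (by
        have : ¬ (2 ≤ l) := fun h => absurd (h.trans hl) (by decide)
        simp [PV1, this])
      rw [h4, mul_zero]
    rw [h3, zero_mul]
  · by_cases hi : 2 ≤ i
    · have h3 : (mt g * (mt v - 1)) i l = 0 := by
        rw [Matrix.mul_apply]
        apply Finset.sum_eq_zero
        intro k _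
        by_cases hk : k ≤ 1
        · rw [low_zero hg h1 hi hk, zero_mul]
        · have h4 : (mt v - 1) k l = 0 := hv k l (by simp [PV1, hk])
          rw [h4, mul_zero]
      rw [h3, zero_mul]
    · have hj : j ≤ 1 := by
        by_contra hj
        have h5 : i ≤ 1 := (by decide : ∀ i : Fin 5, ¬ 2 ≤ i → i ≤ 1) i hi
        have h6 : 2 ≤ j := (by decide : ∀ i : Fin 5, ¬ i ≤ 1 → 2 ≤ i) j hj
        simp [PV1, h5, h6] at hij
      have hl' : 2 ≤ l := (by decide : ∀ i : Fin 5, ¬ i ≤ 1 → 2 ≤ i) l hl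
      rw [low_zero (CC.inv_mem hg) h2 hl' hj, mul_zero]

/-- `g` commutes with `u ∈ V1` having a non-zero entry in row 1 -/
theorem up_of_comm {g u : L5} (hg : g ∈ CC) (hu : u ∈ V1) {j : Fin 5} (hj : mt u 1 j = 1) (hj2 : 2 ≤ j)
    (hc : g * u = u * g) : Up g := by
  have key : ∀ i : Fin 5, 2 ≤ i → mt g i 1 = 0 := by
    intro i hi
    have h1 := mul_entry hc i j
    rw [Matrix.mul_apply, Matrix.mul_apply] at h1
    have h2 : ∑ k, mt u i k * mt g k j = mt g i j := by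
      rw [Finset.sum_eq_single i]
      · rw [V1_entry hu (by
          have : ¬ (i ≤ 1) := fun h => absurd (hi.trans h) (by decide)
          simp [PV1, this]), Matrix.one_apply_eq, one_mul]
      · intro k _ hk
        rw [V1_entry hu (by
          have : ¬ (i ≤ 1) := fun h => absurd (hi.trans h) (by decide)
          simp [PV1, this]), Matrix.one_apply_ne (Ne.symm hk), zero_mul]
      · intro h; exact absurd (Finset.mem_univ _) h
    have h3 : ∑ k, mt g i k * mt u k j = mt g i 1 + mt g i j := by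
      rw [Finset.sum_eq_add (1 : Fin 5) j (by rintro rfl; exact absurd hj2 (by decide))]
      · rw [hj, mul_one, V1_entry hu (by
          have : ¬ (j ≤ 1) := fun h => absurd (hj2.trans h) (by decide)
          simp [PV1, this]), Matrix.one_apply_eq, mul_one]
      · intro k _ hk
        by_cases hk0 : k = 0
        · rw [hk0, CC_col hg (by rintro rfl; exact absurd hi (by decide)), zero_mul]
        · rw [V1_entry hu (by
            have : ¬ (k ≤ 1) := (by decide : ∀ k : Fin 5, k ≠ 1 → k ≠ 0 → ¬ k ≤ 1) k hk.1 hk0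
            simp [PV1, this]), Matrix.one_apply_ne hk.2, mul_zero]
      · intro h; exact absurd (Finset.mem_univ _) h
      · intro h; exact absurd (Finset.mem_univ _) h
    rw [h2, h3] at h1
    exact left_eq_add.1 ((add_comm _ _).trans h1).symm |> fun h => h
  exact ⟨key 2 (by decide), key 3 (by decide)⟩

/-- `g` commutes with `u ∈ R1 ∩ V1` having a non-zero entry `(0, 2)` and with `x03` -/
theorem up_of_two {g u : L5} (hg : g ∈ CC) (hu : u ∈ R1) (h01 : mt u 0 1 = 0) (h02 : mt u 0 2 = 1)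
    (hc : g * u = u * g) (h3 : g * x 0 3 = x 0 3 * g) : Up g := by
  have e3 := comm_x (i := 0) (j := 3) (by decide) h3 0 1
  rw [if_neg (by decide), if_pos rfl] at e3
  have e31 : mt g 3 1 = 0 := e3.symm
  have hu1 : ∀ i j : Fin 5, i ≠ 0 → mt u i j = (1 : Matrix (Fin 5) (Fin 5) (ZMod 2)) i j := fun i j hi =>
    pat_entry hu (by simp [PR1, hi])
  have h1 := mul_entry hc 0 1
  rw [Matrix.mul_apply, Matrix.mul_apply, Fin.sum_univ_five, Fin.sum_univ_five, h01, h02, hu1 1 1 (by decide),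
    hu1 2 1 (by decide), hu1 3 1 (by decide), hu1 4 1 (by decide), e31, CC_row hg (j := 1) (by decide)] at h1
  have h00 : mt u 0 0 = 1 := by
    have := pat_entry hu (i := 0) (j := 0) (by decide)
    rwa [Matrix.one_apply_eq] at this
  rw [h00] at h1
  simp only [_root_.Fin.isValue, _root_.MulZeroClass.mul_zero, _root_.Matrix.one_apply_eq, _root_.mul_one, _root_.zero_add, _root_.ne_eq, _root_.Fin.reduceEq, _root_.not_false_eq_true, _root_.Matrix.one_apply_ne, _root_.add_zero, _root_.one_mul, _root_.MulZeroClass.zero_mul, _root_.left_eq_add] at h1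
  exact ⟨h1, e31⟩

/-! ### Checks in `T0` -/

theorem ent_eq {g : L5} {i j : Fin 5} : ent g i j = true ↔ mt g i j = 1 := by
  unfold ent
  rw [decide_eq_true_iff]

theorem ent_false {g : L5} {i j : Fin 5} : ent g i j = false ↔ mt g i j = 0 := by
  unfold ent
  rw [decide_eq_false_iff_not]
  constructor
  · intro h
    exact (zmod2_cases _).resolve_right h
  · intro h h1
    have h2 : (0 : ZMod 2) = 1 := h.symm.trans h1
    exact absurd h2 (by decide)

/-- bit test -/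
def bt (X p : ℕ) : Bool := Nat.beq (Nat.land (Nat.shiftRight X p) 1) 1

theorem bt_eq (X p : ℕ) : bt X p = X.testBit p := by
  unfold bt
  rw [Nat.testBit, Bool.eq_iff_iff]
  have h1 : Nat.land (Nat.shiftRight X p) 1 = (X >>> p) % 2 := by
    show (X >>> p) &&& 1 = _
    rw [Nat.and_one_is_mod]
  rw [h1]
  have h2 : (1 &&& X >>> p) = (X >>> p) % 2 := by rw [Nat.and_comm, Nat.and_one_is_mod]
  rw [h2]
  have h3 : (X >>> p) % 2 < 2 := Nat.mod_lt _ (by norm_num)
  generalize (X >>> p) % 2 = n at h3 ⊢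
  interval_cases n <;> decide

theorem bt_cd (g : L5) (i j : Fin 5) : bt (cd g) (5 * i + j) = ent g i j := by
  rw [bt_eq, testBit_cd]

theorem chk_V : allR (fun a => force (tc a) fun X => !(sqB X) || (bt X 1 || (bt X 19 || (inPf mV1 X || inPf mV2 X))))
    10 0 = true := by decide +kernel

/-- the code of `x12 x34` -/
def ctt : ℕ := 17567937

theorem chk_Q : allR (fun a => force (tc a) fun X => !(sqB X) || (!(bt X 1) || (inPf mQ X ||
    !(force (mul 5 (mul 5 ctt X) ctt) fun Y => commB X Y)))) 10 0 = true := by decide +kernel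

theorem chk_R : allR (fun a => force (tc a) fun X => !(inPf mR1 X) || (!(bt X 1) ||
    (Nat.beq (mul 5 X (mul 5 (mul 5 17043649 X) 17043649)) 17043525 &&
      (Nat.beq (mul 5 X (mul 5 (mul 5 17043777 X) 17043777)) 17043529 &&
        Nat.beq (mul 5 X (mul 5 (mul 5 17044033 X) 17044033)) 17043537)))) 10 0 = true := by decide +kernel

theorem chk_3 : allR (fun a => force (tc a) fun X => !(inPf mR1 X) || (bt X 1 || (!(bt X 2) ||
    Nat.beq (mul 5 X (mul 5 (mul 5 17051713 X) 17051713)) 17043529))) 10 0 = true := by decide +kernel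

theorem chk_4 : allR (fun a => force (tc a) fun X => !(inPf mR1 X) || (bt X 1 || (bt X 2 ||
    (Nat.beq X 17043521 || (Nat.beq X 17043537 || (Nat.beq X 17043529 || Nat.beq X (mul 5 17043529 17043537)))))))
    10 0 = true := by decide +kernel

theorem cdx (i j : Fin 5) (h : i ≠ j) : cd (x i j h) = 17043521 + 2 ^ (5 * (i : ℕ) + j) := by
  rw [cd_x, one_five]

/-- `x12 x34` -/
def tt : L5 := x 1 2 * x 3 4

theorem cd_tt : cd tt = ctt := by
  rw [tt, cd_mul, cdx, cdx]; decide +kernel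

theorem tt_mem : tt ∈ T0 := T0.mul_mem (x_mem_T0 (by decide)) (x_mem_T0 (by decide))

theorem tt_inv : tt⁻¹ = tt := by
  apply inv_eq_of_mul_eq_one_left
  apply cd_inj
  rw [cd_mul, cd_tt, cd_one, one_five]; decide +kernel

theorem cd_conj_x {i j : Fin 5} (h : i ≠ j) (u : L5) : cd (x i j h * u * (x i j h)⁻¹) =
    mul 5 (mul 5 (17043521 + 2 ^ (5 * (i : ℕ) + j)) (cd u)) (17043521 + 2 ^ (5 * (i : ℕ) + j)) := by
  rw [x_inv, cd_mul, cd_mul, cdx]

/-- `A ≤ T0` is normalised by `T0` and has exponent 2 -/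
structure Nrm (A : Subgroup L5) : Prop where
  le : A ≤ T0
  norm : ∀ t ∈ T0, ∀ a ∈ A, t * a * t⁻¹ ∈ A
  sq : ∀ a ∈ A, a * a = 1

variable {A : Subgroup L5}

theorem Nrm.comm (hA : Nrm A) {a b : L5} (ha : a ∈ A) (hb : b ∈ A) : a * b = b * a := by
  have hab := hA.sq _ (A.mul_mem ha hb)
  have haa := hA.sq a ha
  have hbb := hA.sq b hb
  calc a * b = a * (a * b * (a * b)) * b := by rw [hab, mul_one]
    _ = (a * a) * b * a * (b * b) := by group
    _ = b * a := by rw [haa, hbb, one_mul, mul_one]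

theorem Nrm.mem_or (hA : Nrm A) {u : L5} (hu : u ∈ A) (h1 : mt u 0 1 = 0) (h2 : mt u 3 4 = 0) : u ∈ V1 ∨ u ∈ V2 := by
  obtain ⟨a, ha, hc⟩ := exists_tc (hA.le hu)
  have h := allR_zero chk_V a (by simpa using ha)
  have e1 : bt (cd u) 1 = false := by
    have := bt_cd u 0 1
    rw [ent_false.2 h1] at this
    exact this
  have e2 : bt (cd u) 19 = false := by
    have := bt_cd u 3 4
    rw [ent_false.2 h2] at this
    exact this
  rw [force_eq, ← hc, sqB_iff.2 (hA.sq u hu), e1, e2, Bool.not_true, Bool.false_or, Bool.false_or, Bool.false_or,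
    Bool.or_eq_true] at h
  rcases h with h | h
  · exact Or.inl (mem_V1_iff.2 h)
  · exact Or.inr (mem_V2_iff.2 h)

/-- a subgroup in the union of two subgroups -/
theorem le_or_of_mem {X : Type*} [Group X] {A B C : Subgroup X} (h : ∀ a ∈ A, a ∈ B ∨ a ∈ C) : A ≤ B ∨ A ≤ C := by
  by_contra hcon
  rw [not_or, SetLike.not_le_iff_exists, SetLike.not_le_iff_exists] at hcon
  obtain ⟨⟨a, ha, ha1⟩, ⟨b, hb, hb2⟩⟩ := hcon
  have ha2 : a ∈ C := (h a ha).resolve_left ha1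
  have hb1 : b ∈ B := (h b hb).resolve_right hb2
  rcases h _ (A.mul_mem ha hb) with h | h
  · exact ha1 (by simpa using B.mul_mem h (B.inv_mem hb1))
  · exact hb2 (by simpa using C.mul_mem (C.inv_mem ha2) h)

theorem Nrm.le_or (hA : Nrm A) (h : ∀ u ∈ A, mt u 0 1 = 0 ∧ mt u 3 4 = 0) : A ≤ V1 ∨ A ≤ V2 :=
  le_or_of_mem fun u hu => hA.mem_or hu (h u hu).1 (h u hu).2

/-- elements with entry `(0, 1)` lie in `QQ` -/
theorem Nrm.QQ_of (hA : Nrm A) {u : L5} (hu : u ∈ A) (h1 : mt u 0 1 = 1) : u ∈ QQ := by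
  obtain ⟨a, ha, hc⟩ := exists_tc (hA.le hu)
  have h := allR_zero chk_Q a (by simpa using ha)
  have e1 : bt (cd u) 1 = true := by
    have := bt_cd u 0 1
    rw [ent_eq.2 h1] at this
    exact this
  have h3 := hA.comm hu (hA.norm tt tt_mem u hu)
  rw [tt_inv] at h3
  have h5 : cd (tt * u * tt) = mul 5 (mul 5 ctt (cd u)) ctt := by rw [cd_mul, cd_mul, cd_tt]
  rw [force_eq, ← hc, sqB_iff.2 (hA.sq u hu), e1, Bool.not_true, Bool.false_or, Bool.false_or,
    Bool.or_eq_true] at h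
  rcases h with h | h
  · exact mem_QQ_iff.2 h
  · exfalso
    rw [force_eq, ← h5, commB_iff.2 h3] at h
    exact absurd h (by decide)

theorem Nrm.comm_mem (hA : Nrm A) {i j : Fin 5} (h : i < j) {u : L5} (hu : u ∈ A) :
    u * (x i j h.ne * u * (x i j h.ne)⁻¹) ∈ A := A.mul_mem hu (hA.norm _ (x_mem_T0 h) u hu)

/-- elements of `R1` without entry `(0, 1)` are generated by `x02`, `x03`, `x04` -/
theorem mem_of_R1 (h2 : x 0 2 ∈ A) (h3 : x 0 3 ∈ A) (h4 : x 0 4 ∈ A) {y : L5} (hy : y ∈ R1) (h0 : mt y 0 1 = 0) :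
    y ∈ A := by
  obtain ⟨f, rfl⟩ := mem_R1_low'.1 hy
  have hx : ∀ j : Fin 4, x 0 j.succ (Fin.succ_ne_zero j).symm = ro (Pi.single j 1) := by
    intro j
    apply ext_CC (x_mem _ (Fin.succ_ne_zero j) (by decide)) (ro_mem _)
    · rw [top_ro]
      funext k
      rw [top_apply, coe_x, transvection_apply', Pi.single_apply]
      revert j k; decide
    · rw [low_ro]
      ext i k
      rw [low_apply, coe_x, transvection_apply', Matrix.one_apply]
      revert j i k; decide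
  have hf0 : f 0 = 0 := by
    have h5 : top (ro f) 0 = mt (ro f) 0 1 := by rw [top_apply]; rfl
    rw [top_ro, h0] at h5
    exact h5
  let g : ZMod 2 → Fin 4 → F4 := fun c j => if c = 1 then Pi.single j 1 else 0
  have key : f = g (f 1) 1 + g (f 2) 2 + g (f 3) 3 := by
    funext j
    have h6 : ∀ c : ZMod 2, c = 0 ∨ c = 1 := zmod2_cases
    rcases h6 (f 1) with e1 | e1 <;> rcases h6 (f 2) with e2 | e2 <;> rcases h6 (f 3) with e3 | e3 <;>
      (revert j; simp only [g, e1, e2, e3, hf0, Pi.single_apply, _root_.Fin.forall_fin_succ, Fin.isValue, _root_.zero_ne_one, ↓reduceIte, _root_.add_zero, _root_.Pi.add_apply, _root_.Pi.zero_apply, _root_.Fin.succ_zero_eq_one, _root_.Fin.succ_one_eq_two, Fin.reduceSucc, _root_.IsEmpty.forall_iff, _root_.and_self, _root_.zero_add, Fin.reduceEq])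
  have hg : ∀ c j, x 0 (Fin.succ j) (Fin.succ_ne_zero j).symm ∈ A → ro (g c j) ∈ A := by
    intro c j hj
    show ro (if c = 1 then Pi.single j 1 else 0) ∈ A
    split
    · rw [← hx]; exact hj
    · rw [ro_zero]; exact A.one_mem
  rw [key, ro_add, ro_add]
  exact A.mul_mem (A.mul_mem (hg _ 1 h2) (hg _ 2 h3)) (hg _ 3 h4)

/-- if `A` contains an element of `R1` with entry `(0, 1)`, then `R1 ≤ A` -/
theorem Nrm.R1_le (hA : Nrm A) {u : L5} (hu : u ∈ A) (hR : u ∈ R1) (h1 : mt u 0 1 = 1) : R1 ≤ A := by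
  obtain ⟨a, ha, hc⟩ := exists_tc (hA.le hu)
  have h := allR_zero chk_R a (by simpa using ha)
  have e1 : bt (cd u) 1 = true := by
    have := bt_cd u 0 1
    rw [ent_eq.2 h1] at this
    exact this
  rw [force_eq, ← hc, mem_R1_iff.1 hR, e1, Bool.not_true, Bool.false_or, Bool.false_or, Bool.and_eq_true,
    Bool.and_eq_true] at h
  obtain ⟨h2, h3, h4⟩ := h
  have k2 : u * (x 1 2 * u * (x 1 2)⁻¹) = x 0 2 := by
    apply cd_inj
    rw [cd_mul, cd_conj_x, cdx]
    exact Nat.eq_of_beq_eq_true h2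
  have k3 : u * (x 1 3 * u * (x 1 3)⁻¹) = x 0 3 := by
    apply cd_inj
    rw [cd_mul, cd_conj_x, cdx]
    exact Nat.eq_of_beq_eq_true h3
  have k4 : u * (x 1 4 * u * (x 1 4)⁻¹) = x 0 4 := by
    apply cd_inj
    rw [cd_mul, cd_conj_x, cdx]
    exact Nat.eq_of_beq_eq_true h4
  have m2 : x 0 2 ∈ A := by rw [← k2]; exact hA.comm_mem (by decide) hu
  have m3 : x 0 3 ∈ A := by rw [← k3]; exact hA.comm_mem (by decide) hu
  have m4 : x 0 4 ∈ A := by rw [← k4]; exact hA.comm_mem (by decide) hu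
  intro y hy
  rcases zmod2_cases (mt y 0 1) with h5 | h5
  · exact mem_of_R1 m2 m3 m4 hy h5
  · have h6 : mt (u * y) 0 1 = 0 := by
      obtain ⟨f, hf⟩ := mem_R1_low'.1 hR
      obtain ⟨f', hf'⟩ := mem_R1_low'.1 hy
      have a1 : mt (u * y) 0 1 = top (ro (f + f')) 0 := by rw [hf, hf', ← ro_add, top_apply]; rfl
      have a2 : mt u 0 1 = top (ro f) 0 := by rw [hf, top_apply]; rfl
      have a3 : mt y 0 1 = top (ro f') 0 := by rw [hf', top_apply]; rfl
      rw [a1, top_ro, Pi.add_apply]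
      rw [a2, top_ro] at h1
      rw [a3, top_ro] at h5
      rw [h1, h5]; decide
    have h7 := mem_of_R1 m2 m3 m4 (R1.mul_mem hR hy) h6
    have h8 := A.mul_mem hu h7
    rwa [← mul_assoc, hA.sq u hu, one_mul] at h8

/-- `A ≤ V1`: the centralizer of `A` in `CC` normalises `V1`, or `A ≤ V2` contains `x03`. -/
theorem Nrm.dich (hA : Nrm A) (hV : A ≤ V1) (hz : zz ∈ A) (hne : ∃ a ∈ A, a ≠ 1 ∧ a ≠ zz) :
    (∀ g ∈ CC, (∀ a ∈ A, g * a = a * g) → Up g) ∨ (A ≤ V2 ∧ x 0 3 ∈ A) := by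
  by_cases h1 : ∃ u ∈ A, ∃ j : Fin 5, 2 ≤ j ∧ mt u 1 j = 1
  · left
    obtain ⟨u, hu, j, hj, e⟩ := h1
    exact fun g hg hc => up_of_comm hg (hV hu) e hj (hc u hu)
  push Not at h1
  have hR : ∀ u ∈ A, u ∈ R1 ∧ mt u 0 1 = 0 := by
    intro u hu
    constructor
    · intro i j hij
      rw [← mt, Matrix.sub_apply, sub_eq_zero]
      by_cases hp : PV1 i j = false
      · exact V1_entry (hV hu) hp
      · have hi : i ≤ 1 := by
          by_contra hi
          apply hp; simp [PV1, hi]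
        have hj : 2 ≤ j := by
          by_contra hj
          apply hp; simp [PV1, hj]
        have hi0 : i ≠ 0 := by
          rintro rfl
          have h2 : 1 ≤ j := le_trans (by decide) hj
          simp [PR1, h2] at hij
        have hi1 : i = 1 := (by decide : ∀ i : Fin 5, i ≤ 1 → i ≠ 0 → i = 1) i hi hi0
        rw [hi1, Matrix.one_apply_ne (by rintro rfl; exact absurd hj (by decide))]
        exact (zmod2_cases _).resolve_right (h1 u hu j hj)
    · have := V1_entry (hV hu) (i := 0) (j := 1) (by decide)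
      rwa [Matrix.one_apply_ne (by decide)] at this
  by_cases h2 : ∃ u ∈ A, mt u 0 2 = 1
  · left
    obtain ⟨u, hu, e⟩ := h2
    obtain ⟨a, ha, hc⟩ := exists_tc (hA.le hu)
    have h := allR_zero chk_3 a (by simpa using ha)
    have e1 : bt (cd u) 1 = false := by
      have := bt_cd u 0 1
      rw [ent_false.2 (hR u hu).2] at this
      exact this
    have e2 : bt (cd u) 2 = true := by
      have := bt_cd u 0 2
      rw [ent_eq.2 e] at this
      exact this
    rw [force_eq, ← hc, mem_R1_iff.1 (hR u hu).1, e1, e2, Bool.not_true, Bool.false_or, Bool.false_or,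
      Bool.false_or] at h
    have k3 : u * (x 2 3 * u * (x 2 3)⁻¹) = x 0 3 := by
      apply cd_inj
      rw [cd_mul, cd_conj_x, cdx]
      exact Nat.eq_of_beq_eq_true h
    have m3 : x 0 3 ∈ A := by rw [← k3]; exact hA.comm_mem (by decide) hu
    exact fun g hg hcm => up_of_two hg (hR u hu).1 (hR u hu).2 e (hcm u hu) (hcm _ m3)
  · right
    push Not at h2
    have hmem : ∀ u ∈ A, u = 1 ∨ u = zz ∨ u = x 0 3 ∨ u = x 0 3 * zz := by
      intro u hu
      obtain ⟨a, ha, hc⟩ := exists_tc (hA.le hu)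
      have h := allR_zero chk_4 a (by simpa using ha)
      have e1 : bt (cd u) 1 = false := by
        have := bt_cd u 0 1
        rw [ent_false.2 (hR u hu).2] at this
        exact this
      have e2 : bt (cd u) 2 = false := by
        have := bt_cd u 0 2
        rw [ent_false.2 ((zmod2_cases _).resolve_right (h2 u hu))] at this
        exact this
      rw [force_eq, ← hc, mem_R1_iff.1 (hR u hu).1, e1, e2, Bool.not_true, Bool.false_or, Bool.false_or,
        Bool.false_or, Bool.or_eq_true, Bool.or_eq_true, Bool.or_eq_true] at h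
      rcases h with h | h | h | h
      · left; apply cd_inj
        rw [cd_one, one_five]; exact Nat.eq_of_beq_eq_true h
      · right; left; apply cd_inj
        rw [zz, cdx]; exact Nat.eq_of_beq_eq_true h
      · right; right; left; apply cd_inj
        rw [cdx]; exact Nat.eq_of_beq_eq_true h
      · right; right; right; apply cd_inj
        rw [cd_mul, zz, cdx, cdx]; exact Nat.eq_of_beq_eq_true h
    have z2 : zz ∈ V2 := by
      rw [zz, mem_V2_iff, cdx]; decide +kernel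
    have x2 : x 0 3 ∈ V2 := by
      rw [mem_V2_iff, cdx]; decide +kernel
    refine ⟨?_, ?_⟩
    · intro u hu
      rcases hmem u hu with rfl | rfl | rfl | rfl
      · exact V2.one_mem
      · exact z2
      · exact x2
      · exact V2.mul_mem x2 z2
    · obtain ⟨a, ha, ha1, haz⟩ := hne
      rcases hmem a ha with rfl | rfl | rfl | rfl
      · exact absurd rfl ha1
      · exact absurd rfl haz
      · exact ha
      · have := A.mul_mem ha (A.inv_mem hz)
        rwa [mul_inv_cancel_right] at this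

end Cfsg.Agent.H6.HeElt
end

-- part: H6/He/Over
section
/-!
# 2-local overgroups of a Sylow 2-subgroup in a group with the involution centralizer of `SL(5, 2)` (helper6)

`Hyp z ι` : `C(z) = 2^{1+6}:L3(2)`.  `Ctx z ι`: in addition `x01 x24` is not conjugate to `z`, and some element moving `z`
into `R1` (`R2`) does not normalise `R1` (`R2`): this holds in the Held group.
* `normalizer_R1`: `N(R1) ≤ C(z)`;
* `over`: `T ≤ H`, `O₂(H) ≠ 1`: `H ≤ C(z)`, `N(V1)` or `N(V2)`.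
-/

set_option autoImplicit false

namespace Cfsg.Agent.H6.HeOver

open Subgroup Cfsg Cfsg.Agent.SporadicRecognition.HeldModel Cfsg.Agent.KFacts.TwoSix.Base
  Cfsg.Agent.KFacts.TwoSix.Facts Cfsg.Agent.KFacts.TwoSix.U
  Cfsg.Agent.KFacts.He.InvolAut Cfsg.Agent.H6.HeElt Cfsg.Agent.QTUniq.Local
open Cfsg.Agent.KFacts.TwoSix.Normal (trans_R1)

/-- **Frattini argument for a weakly closed subgroup `V` centralizing `U`.** -/
theorem normalizer_le {G : Type*} [Group G] [Finite G] (T : Sylow 2 G) {U V : Subgroup G}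
    (hTU : (T : Subgroup G) ≤ normalizer (U : Set G)) (hVT : V ≤ (T : Subgroup G))
    (hw : ∀ g : G, (∀ v ∈ V, g * v * g⁻¹ ∈ (T : Subgroup G)) → g ∈ normalizer (V : Set G))
    (hVU : V ≤ centralizer (U : Set G)) (hC : centralizer (U : Set G) ≤ normalizer (V : Set G)) :
    normalizer (U : Set G) ≤ normalizer (V : Set G) := by
  have h2 : Fact (Nat.Prime 2) := ⟨Nat.prime_two⟩
  set N0 : Subgroup G := normalizer (U : Set G) with hN0
  have hCN : centralizer (U : Set G) ≤ N0 := Subgroup.centralizer_le_normalizer _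
  set K : Subgroup N0 := (centralizer (U : Set G)).subgroupOf N0 with hK
  have hKn : K.Normal := by
    rw [hK, normal_subgroupOf_iff_le_normalizer hCN]
    intro g hg
    have key : ∀ g ∈ N0, ∀ x ∈ centralizer (U : Set G), g * x * g⁻¹ ∈ centralizer (U : Set G) := by
      intro g hg x hx
      rw [mem_centralizer_iff] at hx ⊢
      intro u hu
      have h1 : g⁻¹ * u * g ∈ U := by
        have h3 := (mem_normalizer_iff.1 (inv_mem hg) u).1 hu
        rwa [inv_inv] at h3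
      have h3 := hx _ h1
      calc u * (g * x * g⁻¹) = g * ((g⁻¹ * u * g) * x) * g⁻¹ := by group
        _ = g * (x * (g⁻¹ * u * g)) * g⁻¹ := by rw [h3]
        _ = g * x * g⁻¹ * u := by group
    rw [mem_normalizer_iff]
    intro x
    refine ⟨key g hg x, fun hx => ?_⟩
    have h1 := key g⁻¹ (inv_mem hg) _ hx
    have e : g⁻¹ * (g * x * g⁻¹) * g⁻¹⁻¹ = x := by group
    rwa [e] at h1
  have htop := Lib.SylowNormalInf.normalizer_inf_sup_eq_top (T.subtype hTU) K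
  intro g hg
  have hg' : (⟨g, hg⟩ : N0) ∈ normalizer ((((T.subtype hTU : Subgroup N0) ⊓ K : Subgroup N0)) : Set N0) ⊔ K := by
    rw [htop]; exact mem_top _
  obtain ⟨y, hy, k, hk, hyk⟩ := Subgroup.mem_sup_of_normal_right.1 hg'
  have hyV : (y : G) ∈ normalizer (V : Set G) := by
    apply hw
    intro v hv
    have hvN : v ∈ N0 := hTU (hVT hv)
    have h1 : (⟨v, hvN⟩ : N0) ∈ ((T.subtype hTU : Subgroup N0) ⊓ K : Subgroup N0) :=
      mem_inf.2 ⟨hVT hv, mem_subgroupOf.2 (hVU hv)⟩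
    have h3 := (mem_normalizer_iff.1 hy _).1 h1
    exact (mem_inf.1 h3).1
  have hkV : (k : G) ∈ normalizer (V : Set G) := hC (mem_subgroupOf.1 hk)
  have h4 : g = (y : G) * (k : G) := (congrArg Subtype.val hyk).symm
  rw [h4]
  exact mul_mem hyV hkV

section

variable {G : Type*} [Group G] {z : G} {ι : CC →* G}

/-- the preimage in `L5` of a subgroup of `G` -/
def pre (ι : CC →* G) (U : Subgroup G) : Subgroup L5 := (U.comap ι).map CC.subtype

theorem mem_pre {U : Subgroup G} {u : CC} : (u : L5) ∈ pre ι U ↔ ι u ∈ U := by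
  constructor
  · rintro ⟨w, hw, e⟩
    rw [← Subtype.ext e]; exact hw
  · intro h; exact ⟨u, h, rfl⟩

theorem exists_pre {U : Subgroup G} {u : L5} (h : u ∈ pre ι U) : ∃ w : CC, (w : L5) = u ∧ ι w ∈ U := by
  obtain ⟨w, hw, e⟩ := h
  exact ⟨w, e, hw⟩

/-- `CC` acts on `img ι R1` -/
theorem range_le_R1 : ι.range ≤ normalizer (img ι R1 : Set G) := by
  have key : ∀ u : CC, ∀ x ∈ img ι R1, ι u * x * (ι u)⁻¹ ∈ img ι R1 := by
    intro u x hx
    obtain ⟨w, hw, rfl⟩ := mem_img.1 hx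
    rw [← map_inv, ← map_mul, ← map_mul, mem_img]
    exact ⟨u * w * u⁻¹, R1_conj u.2 hw, rfl⟩
  rintro _ ⟨u, rfl⟩
  rw [mem_normalizer_iff]
  intro x
  refine ⟨key u x, fun hx => ?_⟩
  have h1 := key u⁻¹ _ hx
  have e : ι u⁻¹ * (ι u * x * (ι u)⁻¹) * (ι u⁻¹)⁻¹ = x := by rw [map_inv]; group
  rwa [e] at h1

/-- `zz` as an element of `CC` is in the image of every normal subgroup considered -/
theorem z_mem_img (h : Hyp z ι) {A : Subgroup L5} (hz : zz ∈ A) : z ∈ img ι A := by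
  rw [← h.map_zz, mem_img]; exact ⟨zC, hz, rfl⟩

/-- the configuration of the Held group -/
structure Ctx (z : G) (ι : CC →* G) : Prop where
  hyp : Hyp z ι
  nm : ¬ IsConj z (ι vC)
  y1 : ∃ y : G, y * z * y⁻¹ ∈ img ι R1 ∧ y ∉ normalizer (img ι R1 : Set G)
  y2 : ∃ y : G, y * z * y⁻¹ ∈ img ι R2 ∧ y ∉ normalizer (img ι R2 : Set G)

theorem img_tau_R1 : img (ι.comp tauC) R1 = img ι R2 :=
  img_tau R1 R2 (fun _ h => tau_mem_R2 h) (fun _ h => tau_mem_R1 h)

theorem img_tau_R2 : img (ι.comp tauC) R2 = img ι R1 :=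
  img_tau R2 R1 (fun _ h => tau_mem_R1 h) (fun _ h => tau_mem_R2 h)

theorem x_ne_one {i j : Fin 5} (h : i ≠ j) : x i j h ≠ 1 := by
  intro e
  have h1 := congrArg cd e
  rw [cdx, cd_one, one_five] at h1
  have h2 : 0 < 2 ^ (5 * (i : ℕ) + j) := Nat.two_pow_pos _
  omega

theorem x_ne_zz {i j : Fin 5} (h : i ≠ j) (hij : ¬ (i = 0 ∧ j = 4)) : x i j h ≠ zz := by
  intro e
  have h1 := congrArg cd e
  rw [zz, cdx, cdx] at h1
  have h2 : 2 ^ (5 * (i : ℕ) + j) = 2 ^ (5 * ((0 : Fin 5) : ℕ) + (4 : Fin 5)) := by omega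
  have h3 := Nat.pow_right_injective le_rfl h2
  apply hij
  revert h3
  revert i j
  decide +kernel

theorem x02_mem : x 0 2 ∈ R1 := by rw [mem_R1_iff, cdx]; decide +kernel
theorem x01_mem : x 0 1 ∈ R1 := by rw [mem_R1_iff, cdx]; decide +kernel
theorem x34_mem : x 3 4 ∈ R2 := by
  have h := tau_mem_R2 x01_mem
  rwa [(tau_x' 0 1 3 4 (by decide) rfl rfl).2] at h

/-- the image of `x01 x24` under the graph automorphism is conjugate to it -/
theorem conj_tau : ∃ p : CC, p * tauC vC * p⁻¹ = vC := by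
  have e : ((tauC vC : CC) : L5) = x 3 4 * x 0 2 := by
    show tau (x 0 1 * x 2 4) = _
    rw [map_mul, (tau_x' 0 1 3 4 (by decide) rfl rfl).2, (tau_x' 2 4 0 2 (by decide) rfl rfl).2]
  have hc : x 0 2 * x 3 4 = x 3 4 * x 0 2 := by
    apply cd_inj
    rw [cd_mul, cd_mul, cdx, cdx]; decide +kernel
  obtain ⟨p, hp, he⟩ := pair_conj x02_mem (x_ne_one _) (x_ne_zz _ (by decide)) x34_mem (x_ne_one _)
    (x_ne_zz _ (by decide)) hc
  refine ⟨⟨p, hp⟩, Subtype.ext ?_⟩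
  show p * ((tauC vC : CC) : L5) * p⁻¹ = x 0 1 * x 2 4
  rw [e, ← hc, he]

theorem Ctx.tau (c : Ctx z ι) : Ctx z (ι.comp tauC) where
  hyp := c.hyp.tau
  nm := by
    intro h
    apply c.nm
    obtain ⟨p, hp⟩ := conj_tau
    refine h.trans (isConj_iff.2 ⟨ι p, ?_⟩)
    show ι p * ι (tauC vC) * (ι p)⁻¹ = ι vC
    rw [← map_inv, ← map_mul, ← map_mul, hp]
  y1 := by rw [img_tau_R1]; exact c.y2
  y2 := by rw [img_tau_R2]; exact c.y1

theorem z_ne (h : Hyp z ι) : z ≠ 1 := by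
  intro e
  have h1 : ι zC = ι 1 := by rw [h.map_zz, e, map_one]
  exact zz_ne_one (congrArg Subtype.val (h.inj h1))

theorem mem_range (h : Hyp z ι) {g : G} : g ∈ ι.range ↔ g * z = z * g := by
  rw [h.range, mem_centralizer_singleton_iff]

/-- **`N(R1) ≤ C(z)`** -/
theorem Ctx.normalizer_R1 (c : Ctx z ι) : normalizer (img ι R1 : Set G) ≤ centralizer {z} := by
  by_contra hcon
  obtain ⟨n, hn, hnz⟩ := SetLike.not_le_iff_exists.1 hcon
  rw [mem_centralizer_singleton_iff] at hnz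
  have hzR : z ∈ img ι R1 := z_mem_img c.hyp zz_mem_R1
  have ha := (mem_normalizer_iff.1 hn z).1 hzR
  obtain ⟨a, haR, hae⟩ := mem_img.1 ha
  have ha1 : (a : L5) ≠ 1 := by
    intro h
    have h1 : a = 1 := Subtype.ext h
    rw [h1, map_one] at hae
    apply z_ne c.hyp
    calc z = n⁻¹ * (n * z * n⁻¹) * n := by group
      _ = 1 := by rw [← hae]; group
  have haz : (a : L5) ≠ zz := by
    intro h
    have h1 : a = zC := Subtype.ext h
    rw [h1, c.hyp.map_zz] at hae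
    exact hnz (mul_inv_eq_iff_eq_mul.1 hae.symm)
  have key : ∀ b ∈ img ι R1, b ≠ 1 → ∃ w ∈ normalizer (img ι R1 : Set G), w * b * w⁻¹ = z := by
    intro b hb hb1
    obtain ⟨b', hbR, rfl⟩ := mem_img.1 hb
    by_cases hbz : (b' : L5) = zz
    · have h1 : b' = zC := Subtype.ext hbz
      refine ⟨1, one_mem _, ?_⟩
      rw [h1, c.hyp.map_zz]; group
    · have hb1' : (b' : L5) ≠ 1 := fun h => hb1 (by
        have h1 : b' = 1 := Subtype.ext h
        rw [h1, map_one])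
      obtain ⟨p, hp, he⟩ := trans_R1 hbR hb1' hbz haR ha1 haz
      refine ⟨n⁻¹ * ι ⟨p, hp⟩, mul_mem (inv_mem hn) (range_le_R1 ⟨_, rfl⟩), ?_⟩
      have h1 : (⟨p, hp⟩ : CC) * b' * (⟨p, hp⟩ : CC)⁻¹ = a := Subtype.ext he
      calc n⁻¹ * ι ⟨p, hp⟩ * ι b' * (n⁻¹ * ι ⟨p, hp⟩)⁻¹ = n⁻¹ * (ι ⟨p, hp⟩ * ι b' * (ι ⟨p, hp⟩)⁻¹) * n := by group
        _ = n⁻¹ * (n * z * n⁻¹) * n := by rw [← map_inv, ← map_mul, ← map_mul, h1, hae]
        _ = z := by group
  obtain ⟨y, hy, hyn⟩ := c.y1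
  have hy1 : y * z * y⁻¹ ≠ 1 := by
    intro h
    apply z_ne c.hyp
    calc z = y⁻¹ * (y * z * y⁻¹) * y := by group
      _ = 1 := by rw [h]; group
  obtain ⟨w, hw, he⟩ := key _ hy hy1
  apply hyn
  have h1 : w * y ∈ ι.range := by
    rw [mem_range c.hyp]
    calc w * y * z = w * (y * z * y⁻¹) * w⁻¹ * (w * y) := by group
      _ = z * (w * y) := by rw [he]
  have h2 := mul_mem (inv_mem hw) (range_le_R1 h1)
  rwa [inv_mul_cancel_left] at h2

/-- involutions of `QQ` outside `R1` and `R2` are conjugate to `x01 x24` -/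
theorem conj_mixed {u : CC} (hQ : (u : L5) ∈ QQ) (h2 : u * u = 1) (h1 : (u : L5) ∉ R1) (h3 : (u : L5) ∉ R2) :
    ∃ p : CC, p * u * p⁻¹ = vC := by
  obtain ⟨a, ha, b, hb, e⟩ := exists_mul' hQ
  have haa : a * a = 1 := by
    obtain ⟨f, rfl⟩ := mem_R1_low'.1 ha
    exact ro_sq f
  have hbb : b * b = 1 := by
    obtain ⟨f, hf⟩ := mem_R1_low'.1 (tau_mem_R1 hb)
    have h4 : tau (b * b) = 1 := by rw [map_mul, hf, ro_sq]
    have h5 := congrArg tau h4
    rwa [tau_tau, map_one] at h5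
  have huu : (a * b) * (a * b) = 1 := by
    rw [← e]; exact congrArg Subtype.val h2
  have hc : a * b = b * a := by
    have h4 : (a * b)⁻¹ = a * b := inv_eq_of_mul_eq_one_left huu
    rw [← h4, mul_inv_rev, inv_eq_of_mul_eq_one_left haa, inv_eq_of_mul_eq_one_left hbb]
  obtain ⟨p, hp, he⟩ := pair_conj ha (by
      rintro rfl; rw [one_mul] at e; exact h3 (e ▸ hb)) (by
      rintro rfl; exact h3 (e ▸ R2.mul_mem zz_mem_R2 hb)) hb (by
      rintro rfl; rw [mul_one] at e; exact h1 (e ▸ ha)) (by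
      rintro rfl; exact h1 (e ▸ R1.mul_mem ha zz_mem_R1)) hc
  refine ⟨⟨p, hp⟩, Subtype.ext ?_⟩
  show p * (u : L5) * p⁻¹ = x 0 1 * x 2 4
  rw [e, he]

variable [Finite G]

/-- the hypotheses on `U` -/
structure UU (z : G) (ι : CC →* G) (U : Subgroup G) : Prop where
  le : U ≤ img ι T0
  norm : img ι T0 ≤ normalizer (U : Set G)
  sq : ∀ u ∈ U, u * u = 1
  mem : z ∈ U

omit [Finite G] in
theorem UU.tau {U : Subgroup G} (hU : UU z ι U) : UU z (ι.comp tauC) U where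
  le := by rw [img_tau_T0]; exact hU.le
  norm := by rw [img_tau_T0]; exact hU.norm
  sq := hU.sq
  mem := hU.mem

omit [Finite G] in
theorem UU.nrm (h : Hyp z ι) {U : Subgroup G} (hU : UU z ι U) : Nrm (pre ι U) where
  le := by
    intro u hu
    obtain ⟨w, rfl, hw⟩ := exists_pre hu
    exact (ι_mem_img h).1 (hU.le hw)
  norm := by
    intro t ht a ha
    obtain ⟨w, rfl, hw⟩ := exists_pre ha
    have h1 : t * (w : L5) * t⁻¹ = ((⟨t, T0_le_CC ht⟩ * w * ⟨t, T0_le_CC ht⟩⁻¹ : CC) : L5) := rfl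
    rw [h1, mem_pre, map_mul, map_mul, map_inv]
    exact (mem_normalizer_iff.1 (hU.norm (mem_img.2 ⟨⟨t, T0_le_CC ht⟩, ht, rfl⟩)) _).1 hw
  sq := by
    intro a ha
    obtain ⟨w, rfl, hw⟩ := exists_pre ha
    have h1 := hU.sq _ hw
    rw [← map_mul, ← map_one ι] at h1
    exact congrArg Subtype.val (h.inj h1)

omit [Finite G] in
theorem UU.zz_mem (h : Hyp z ι) {U : Subgroup G} (hU : UU z ι U) : zz ∈ pre ι U := by
  have : ((zC : CC) : L5) ∈ pre ι U := mem_pre.2 (by rw [h.map_zz]; exact hU.mem)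
  exact this

/-- `V1` is weakly closed -/
theorem norm_of_weak (h : Hyp z ι) {T : Sylow 2 G} (hT : (T : Subgroup G) = img ι T0) (g : G)
    (hg : ∀ v ∈ img ι V1, g * v * g⁻¹ ∈ (T : Subgroup G)) : g ∈ normalizer (img ι V1 : Set G) := by
  rw [hT] at hg
  have h1 := weak_V1 h g hg
  have h2 : (img ι V1).map (MulAut.conj g).toMonoidHom = img ι V1 := by
    apply Subgroup.eq_of_le_of_card_ge
    · rintro _ ⟨v, hv, rfl⟩
      exact h1 v hv
    · rw [Subgroup.card_map_of_injective (MulAut.conj g).injective]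
  rw [mem_normalizer_iff]
  intro x
  refine ⟨h1 x, fun hx => ?_⟩
  rw [← h2] at hx
  obtain ⟨y, hy, e⟩ := hx
  have h3 : y = x := (MulAut.conj g).injective e
  rw [← h3]; exact hy

/-- `N(U) ≤ N(V1)` for `U ≤ V1` if `C_CC(U)` is block upper triangular -/
theorem normV1 (h : Hyp z ι) {T : Sylow 2 G} (hT : (T : Subgroup G) = img ι T0) {U : Subgroup G} (hU : UU z ι U)
    (hV : U ≤ img ι V1) (hup : ∀ g ∈ CC, (∀ a ∈ pre ι U, g * a = a * g) → Up g) :
    normalizer (U : Set G) ≤ normalizer (img ι V1 : Set G) := by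
  have hcomm : ∀ x ∈ img ι V1, ∀ y ∈ img ι V1, x * y = y * x := by
    intro x hx y hy
    obtain ⟨u, hu, rfl⟩ := mem_img.1 hx
    obtain ⟨v, hv, rfl⟩ := mem_img.1 hy
    rw [← map_mul, ← map_mul]
    congr 1
    exact Subtype.ext (comm_of_V1 hu hv)
  apply normalizer_le T (by rw [hT]; exact hU.norm) (by rw [hT]; exact img_mono V1_le_T0) (norm_of_weak h hT)
  · intro v hv
    rw [mem_centralizer_iff]
    intro u hu
    exact hcomm u (hV hu) v hv
  · -- `C(U) ≤ C(z)`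
    have key : ∀ g ∈ centralizer (U : Set G), ∀ x ∈ img ι V1, g * x * g⁻¹ ∈ img ι V1 := by
      intro g hg x hx
      have h1 : g ∈ ι.range := by
        rw [mem_range h]
        exact (mem_centralizer_iff.1 hg z hU.mem).symm
      obtain ⟨w, rfl⟩ := h1
      obtain ⟨v, hv, rfl⟩ := mem_img.1 hx
      have h2 : ∀ w' : CC, ι w' ∈ centralizer (U : Set G) → Up (w' : L5) := by
        intro w' hw'
        apply hup _ w'.2
        intro a ha
        obtain ⟨b, rfl, hb⟩ := exists_pre ha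
        have h3 := mem_centralizer_iff.1 hw' _ hb
        rw [← map_mul, ← map_mul] at h3
        exact (congrArg Subtype.val (h.inj h3)).symm
      rw [← map_inv, ← map_mul, ← map_mul, mem_img]
      refine ⟨w * v * w⁻¹, conj_V1 w.2 (h2 w hg) ?_ hv, rfl⟩
      have h3 := h2 w⁻¹ (by rw [map_inv]; exact inv_mem hg)
      exact h3
    intro g hg
    rw [mem_normalizer_iff]
    intro x
    refine ⟨key g hg x, fun hx => ?_⟩
    have h1 := key g⁻¹ (inv_mem hg) _ hx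
    have e : g⁻¹ * (g * x * g⁻¹) * g⁻¹⁻¹ = x := by group
    rwa [e] at h1

omit [Finite G] in
theorem pre_le_V1 (h : Hyp z ι) {U : Subgroup G} {A : Subgroup L5} (hV : U ≤ img ι A) : pre ι U ≤ A := by
  intro u hu
  obtain ⟨w, rfl, hw⟩ := exists_pre hu
  exact (ι_mem_img h).1 (hV hw)

omit [Finite G] in
theorem le_img (h : Hyp z ι) {U : Subgroup G} (hU : UU z ι U) {A : Subgroup L5} (hA : pre ι U ≤ A) : U ≤ img ι A := by
  intro x hx
  obtain ⟨w, -, rfl⟩ := mem_img.1 (hU.le hx)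
  rw [ι_mem_img h]
  exact hA (mem_pre.2 hx)

/-- the case `U ≤ V1` -/
theorem caseV (h : Hyp z ι) {T : Sylow 2 G} (hT : (T : Subgroup G) = img ι T0) {U : Subgroup G} (hU : UU z ι U)
    (hV : U ≤ img ι V1) :
    normalizer (U : Set G) ≤ centralizer {z} ∨ normalizer (U : Set G) ≤ normalizer (img ι V1 : Set G) ∨
      normalizer (U : Set G) ≤ normalizer (img ι V2 : Set G) := by
  by_cases hne : ∃ a ∈ pre ι U, a ≠ 1 ∧ a ≠ zz
  · right
    rcases (hU.nrm h).dich (pre_le_V1 h hV) (hU.zz_mem h) hne with h1 | ⟨h1, h2⟩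
    · left; exact normV1 h hT hU hV h1
    · right
      rw [← img_tau_V1]
      have h3 : U ≤ img (ι.comp tauC) V1 := by rw [img_tau_V1]; exact le_img h hU h1
      refine normV1 h.tau (by rw [hT, img_tau_T0]) hU.tau h3 ?_
      intro g hg hc
      have h14 : x 1 4 ∈ V1 := by rw [mem_V1_iff, cdx]; decide +kernel
      have h4 : x 1 4 ∈ pre (ι.comp tauC) U := by
        have h5 : ((⟨x 1 4, V1_le_CC h14⟩ : CC) : L5) ∈ pre (ι.comp tauC) U := by
          rw [mem_pre]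
          obtain ⟨w, hw, hwU⟩ := exists_pre h2
          have h6 : tauC ⟨x 1 4, V1_le_CC h14⟩ = w := by
            apply Subtype.ext
            show tau (x 1 4) = _
            rw [hw, (tau_x' 1 4 0 3 (by decide) rfl rfl).2]
          show ι (tauC ⟨x 1 4, V1_le_CC h14⟩) ∈ U
          rw [h6]; exact hwU
        exact h5
      refine up_of_comm hg h14 (j := 4) ?_ (by decide) (hc _ h4)
      show ((x 1 4 : L5) : Matrix (Fin 5) (Fin 5) (ZMod 2)) 1 4 = 1
      rw [coe_x, transvection_apply']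
      decide
  · left
    push Not at hne
    have h1 : ∀ u ∈ U, u = 1 ∨ u = z := by
      intro u hu
      obtain ⟨w, hw, rfl⟩ := mem_img.1 (hU.le hu)
      by_cases h2 : (w : L5) = 1
      · left
        have h3 : w = 1 := Subtype.ext h2
        rw [h3, map_one]
      · right
        have h3 : w = zC := Subtype.ext (hne _ (mem_pre.2 hu) h2)
        rw [h3, h.map_zz]
    intro g hg
    rw [mem_centralizer_singleton_iff]
    have h2 := (mem_normalizer_iff.1 hg z).1 hU.mem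
    rcases h1 _ h2 with h3 | h3
    · exfalso
      apply z_ne h
      calc z = g⁻¹ * (g * z * g⁻¹) * g := by group
        _ = 1 := by rw [h3]; group
    · exact mul_inv_eq_iff_eq_mul.1 h3

omit [Finite G] in
/-- the case of a conjugate of `z` in `U` with entry `(0, 1)` -/
theorem Ctx.caseR (c : Ctx z ι) {U : Subgroup G} (hU : UU z ι U) {y : G} (hy : y ∈ U) (hyz : IsConj z y)
    {u : CC} (hu : ι u = y) (h01 : _root_.Cfsg.Agent.H6.HeElt.mt (u : L5) 0 1 = 1) : normalizer (U : Set G) ≤ centralizer {z} := by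
  have hN := hU.nrm c.hyp
  have huA : (u : L5) ∈ pre ι U := mem_pre.2 (by rw [hu]; exact hy)
  have hQ := hN.QQ_of huA h01
  have hsq : u * u = 1 := Subtype.ext (hN.sq _ huA)
  have h2 : (u : L5) ∉ R2 := by
    intro h
    have h3 : _root_.Cfsg.Agent.H6.HeElt.mt (u : L5) 0 1 = (1 : Matrix (Fin 5) (Fin 5) (ZMod 2)) 0 1 := pat_entry h (by decide)
    rw [h01] at h3
    revert h3; decide
  have h1 : (u : L5) ∈ R1 := by
    by_contra h
    obtain ⟨p, hp⟩ := conj_mixed hQ hsq h h2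
    apply c.nm
    refine hyz.trans (isConj_iff.2 ⟨ι p, ?_⟩)
    rw [← hu, ← map_inv, ← map_mul, ← map_mul, hp]
  have hle := hN.R1_le huA h1 h01
  have hAR : pre ι U ≤ R1 := by
    intro a ha
    exact cent_R1 (T0_le_CC (hN.le ha)) fun e he => hN.comm ha (hle he)
  have hUR : U = img ι R1 := by
    apply le_antisymm (le_img c.hyp hU hAR)
    intro x hx
    obtain ⟨w, hw, rfl⟩ := mem_img.1 hx
    exact mem_pre.1 (hle hw)
  rw [hUR]
  exact c.normalizer_R1

/-- the pattern of the elements of `T0` without entries `(0, 1)`, `(3, 4)` -/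
def PE (i j : Fin 5) : Bool := decide (i < j) && !(decide (i = 0) && decide (j = 1)) && !(decide (i = 3) && decide (j = 4))

def TE : Subgroup L5 := pat PE (by decide)

/-- **The 2-local overgroups of `T`** -/
theorem Ctx.over (c : Ctx z ι) {T : Sylow 2 G} (hT : (T : Subgroup G) = img ι T0) {H : Subgroup G}
    (hTH : (T : Subgroup G) ≤ H) (hH : pCore 2 ↥H ≠ ⊥) :
    H ≤ centralizer {z} ∨ H ≤ normalizer (img ι V1 : Set G) ∨ H ≤ normalizer (img ι V2 : Set G) := by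
  have h2 : Fact (Nat.Prime 2) := ⟨Nat.prime_two⟩
  set R : Subgroup G := (pCore 2 ↥H).map H.subtype with hR
  have hRT : R ≤ (T : Subgroup G) := map_pCore_le_sylow T hTH
  have hHR : H ≤ normalizer (R : Set G) := le_normalizer_map_pCore 2 H
  have hRne : R ≠ ⊥ := map_pCore_ne_bot hH
  have hzz : z * z = 1 := by
    rw [← c.hyp.map_zz, ← map_mul]
    have : zC * zC = 1 := Subtype.ext zz_sq
    rw [this, map_one]
  have hTz : ∀ t ∈ (T : Subgroup G), t * z = z * t := by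
    intro t ht
    rw [hT] at ht
    obtain ⟨w, -, rfl⟩ := mem_img.1 ht
    exact c.hyp.comm w
  -- `z ∈ R`
  have hzR : z ∈ R := by
    have hn' : (R.subgroupOf (T : Subgroup G)).Normal :=
      (normal_subgroupOf_iff_le_normalizer hRT).2 (hTH.trans hHR)
    have hnil : Group.IsNilpotent (T : Subgroup G) := T.isPGroup'.isNilpotent
    have hne' : R.subgroupOf (T : Subgroup G) ≠ ⊥ := by
      intro h
      apply hRne
      rw [subgroupOf_eq_bot] at h
      exact h.eq_bot_of_le hRT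
    obtain ⟨⟨y, hyR, hyc⟩, hy1⟩ := (Subgroup.ne_bot_iff_exists_ne_one).1
      (Lib.NormalAbelian.normal_inf_center_ne_bot _ hne')
    have hy1' : (y : G) ≠ 1 := fun h => hy1 (Subtype.ext (Subtype.ext h))
    have hyT : (y : G) ∈ img ι T0 := hT.le y.2
    obtain ⟨w, hw, he⟩ := mem_img.1 hyT
    have h3 : ∀ t ∈ T0, (w : L5) * t = t * (w : L5) := by
      intro t ht
      have h4 := mem_center_iff.1 hyc ⟨ι ⟨t, T0_le_CC ht⟩, by rw [hT]; exact mem_img.2 ⟨_, ht, rfl⟩⟩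
      have h5 : ι ⟨t, T0_le_CC ht⟩ * (y : G) = y * ι ⟨t, T0_le_CC ht⟩ := congrArg Subtype.val h4
      rw [← he, ← map_mul, ← map_mul] at h5
      exact (congrArg Subtype.val (c.hyp.inj h5)).symm
    rcases centralizer_T0 w.2 h3 with h4 | h4
    · exfalso
      apply hy1'
      have h5 : w = 1 := Subtype.ext h4
      rw [← he, h5, map_one]
    · have h5 : w = zC := Subtype.ext h4
      rw [← c.hyp.map_zz, ← h5, he]
      exact mem_subgroupOf.1 hyR
  have hzU : z ∈ H4.Lf.UU H := H4.Lf.mem_omega.2 ⟨hzR, fun r hr => hTz r (hRT hr), hzz⟩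
  have hN : H ≤ normalizer (H4.Lf.UU H : Set G) := hHR.trans (H4.Lf.normalizer_le_omega R)
  -- the subgroup generated by the conjugates of `z`
  set U : Subgroup G := Subgroup.closure {y | ∃ g ∈ H, g * z * g⁻¹ = y} with hUdef
  have hgen : ∀ y, (∃ g ∈ H, g * z * g⁻¹ = y) → y ∈ H4.Lf.UU H := by
    rintro _ ⟨g, hg, rfl⟩
    exact (mem_normalizer_iff.1 (hN hg) z).1 hzU
  have hUle : U ≤ H4.Lf.UU H := by
    rw [hUdef, closure_le]
    exact fun y hy => hgen y hy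
  have hHU : H ≤ normalizer (U : Set G) := by
    have key : ∀ g ∈ H, ∀ x ∈ U, g * x * g⁻¹ ∈ U := by
      intro g hg x hx
      have h3 : U ≤ U.comap (MulAut.conj g).toMonoidHom := by
        rw [hUdef, closure_le]
        rintro _ ⟨k, hk, rfl⟩
        apply Subgroup.subset_closure
        refine ⟨g * k, mul_mem hg hk, ?_⟩
        show g * k * z * (g * k)⁻¹ = g * (k * z * k⁻¹) * g⁻¹
        group
      exact h3 hx
    intro g hg
    rw [mem_normalizer_iff]
    intro x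
    refine ⟨key g hg x, fun hx => ?_⟩
    have h1 := key g⁻¹ (inv_mem hg) _ hx
    have e : g⁻¹ * (g * x * g⁻¹) * g⁻¹⁻¹ = x := by group
    rwa [e] at h1
  have hU : UU z ι U := by
    refine ⟨?_, ?_, ?_, ?_⟩
    · rw [← hT]
      exact fun x hx => hRT (H4.Lf.mem_omega.1 (hUle hx)).1
    · rw [← hT]
      exact hTH.trans hHU
    · exact fun x hx => (H4.Lf.mem_omega.1 (hUle hx)).2.2
    · exact Subgroup.subset_closure ⟨1, one_mem _, by group⟩
  have hconj : ∀ y, (∃ g ∈ H, g * z * g⁻¹ = y) → IsConj z y := by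
    rintro _ ⟨g, -, rfl⟩
    exact isConj_iff.2 ⟨g, rfl⟩
  by_cases h1 : ∃ y, (∃ g ∈ H, g * z * g⁻¹ = y) ∧ ∃ u : CC, ι u = y ∧ _root_.Cfsg.Agent.H6.HeElt.mt (u : L5) 0 1 = 1
  · left
    obtain ⟨y, hy, u, hu, he⟩ := h1
    exact hHU.trans (c.caseR hU (_root_.Subgroup.subset_closure hy) (hconj y hy) hu he)
  by_cases h3 : ∃ y, (∃ g ∈ H, g * z * g⁻¹ = y) ∧ ∃ u : CC, ι u = y ∧ _root_.Cfsg.Agent.H6.HeElt.mt (u : L5) 3 4 = 1
  · left
    obtain ⟨y, hy, u, hu, he⟩ := h3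
    refine hHU.trans (c.tau.caseR hU.tau (_root_.Subgroup.subset_closure hy) (hconj y hy) (u := tauC u) ?_ ?_)
    · show ι (tauC (tauC u)) = y
      rw [tauC_tauC, hu]
    · have huA : (u : L5) ∈ pre ι U := mem_pre.2 (by rw [hu]; exact _root_.Subgroup.subset_closure hy)
      have hsq := (hU.nrm c.hyp).sq _ huA
      show ((Cfsg.Agent.SporadicRecognition.HeldModel.tau (u : L5) : L5) : Matrix (Fin 5) (Fin 5) (ZMod 2)) 0 1 = 1
      rw [tau_apply, inv_eq_of_mul_eq_one_left hsq]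
      exact he
  push Not at h1 h3
  have hTE : U ≤ img ι TE := by
    rw [hUdef, closure_le]
    intro y hy
    have hyU : y ∈ U := _root_.Subgroup.subset_closure hy
    obtain ⟨w, hw, rfl⟩ := mem_img.1 (hU.le hyU)
    rw [SetLike.mem_coe, mem_img]
    refine ⟨w, ?_, rfl⟩
    intro i j hij
    by_cases hp : PT i j = false
    · exact hw i j hp
    · have hlt : i < j := by
        by_contra hlt
        apply hp; simp [PT, hlt]
      have h4 : (i = 0 ∧ j = 1) ∨ (i = 3 ∧ j = 4) := by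
        revert hij hlt; revert i j; decide
      rcases h4 with ⟨rfl, rfl⟩ | ⟨rfl, rfl⟩
      · have h5 : _root_.Cfsg.Agent.H6.HeElt.mt (w : L5) 0 1 = 0 := (zmod2_cases _).resolve_right (h1 _ hy w rfl)
        rw [Matrix.sub_apply, Matrix.one_apply_ne (by decide), sub_zero]
        exact h5
      · have h5 : _root_.Cfsg.Agent.H6.HeElt.mt (w : L5) 3 4 = 0 := (zmod2_cases _).resolve_right (h3 _ hy w rfl)
        rw [Matrix.sub_apply, Matrix.one_apply_ne (by decide), sub_zero]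
        exact h5
  have hE : ∀ u ∈ pre ι U, _root_.Cfsg.Agent.H6.HeElt.mt u 0 1 = 0 ∧ _root_.Cfsg.Agent.H6.HeElt.mt u 3 4 = 0 := by
    intro u hu
    have h4 : u ∈ TE := pre_le_V1 c.hyp hTE hu
    have h5 := pat_entry h4 (i := 0) (j := 1) (by decide)
    have h6 := pat_entry h4 (i := 3) (j := 4) (by decide)
    rw [Matrix.one_apply_ne (by decide)] at h5 h6
    exact ⟨h5, h6⟩
  rcases (hU.nrm c.hyp).le_or hE with h4 | h4
  · rcases caseV c.hyp hT hU (le_img c.hyp hU h4) with h5 | h5 | h5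
    · exact Or.inl (hHU.trans h5)
    · exact Or.inr (Or.inl (hHU.trans h5))
    · exact Or.inr (Or.inr (hHU.trans h5))
  · have h6 : U ≤ img (ι.comp tauC) V1 := by rw [img_tau_V1]; exact le_img c.hyp hU h4
    rcases caseV c.hyp.tau (by rw [hT, img_tau_T0]) hU.tau h6 with h5 | h5 | h5
    · exact Or.inl (hHU.trans h5)
    · rw [img_tau_V1] at h5; exact Or.inr (Or.inr (hHU.trans h5))
    · rw [img_tau_V2] at h5; exact Or.inr (Or.inl (hHU.trans h5))

end

end Cfsg.Agent.H6.HeOver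
end

private theorem dce_2d429cbd7d74 : _root_.True := by
  try have : _root_.True := by simp only [_root_.Cfsg.Agent.H6.HeElt.tt.eq_1]
  try have : _root_.True := by simp only [_root_.Cfsg.Agent.SporadicRecognition.HeldModel.PV1.eq_1]
  try have : _root_.True := by simp only [_root_.Cfsg.Agent.H6.HeElt.mt.eq_1]
  exact _root_.True.intro
end

-- part: H6/He/Row
section
prune_inst 0x100000000000000000000000400000000000000180000c00080000020000000000a000000000008040000000000000190000000000000000000000000003100200300c00100000000000000000000000000000000000000000000000000000000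
set_option linter.all false
open scoped Cfsg.Agent.FastGrp

-- part: H6/HatSix
section
/-!
# Members of `ℒ(G, T)` in `M ≥ T` with `M / O₂(M) ≃ 3·S₆` (helper6)

* `odd_index`: a subgroup of `S₆` of odd index is solvable or `S₆`;
* `Hat π a b`: `π : Y → S₆` is surjective with kernel of order 3, `a`, `b` are even, centralize the kernel and
  `1 ≠ ⁅a, b⁆ ∈ ker π`;
* `Hat.row`: the members of `ℒ(G, T)` in `M`, if `M` maps onto `Y` with kernel a 2-group.
-/

set_option autoImplicit false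

namespace Cfsg.Agent.H6.HatSix

open Subgroup Cfsg

theorem not_solvable_alt6 : ¬ Group.IsSolvable (alternatingGroup (Fin 6)) := by
  intro h
  have h1 : Group.IsSolvable (Equiv.Perm (Fin 6)) := by
    refine Group.isSolvable_of_ker_le_range (alternatingGroup (Fin 6)).subtype (Equiv.Perm.sign (α := Fin 6)) ?_
    rw [Subgroup.range_subtype]
    exact le_rfl
  exact Equiv.Perm.not_isSolvable (X := Fin 6) (by rw [Cardinal.mk_fin]; norm_num) h1

instance simple_alt6 : IsSimpleGroup (alternatingGroup (Fin 6)) := alternatingGroup.isSimpleGroup (by simp)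

theorem quasi_alt6 : IsQuasisimple (alternatingGroup (Fin 6)) :=
  H5.Small.quasi_of_simple not_solvable_alt6

theorem perfect_alt6 : ⁅alternatingGroup (Fin 6), alternatingGroup (Fin 6)⁆ = alternatingGroup (Fin 6) := by
  have h1 := quasi_alt6.1
  rw [Group.isPerfect_def, commutator_def] at h1
  have h2 := congrArg (Subgroup.map (alternatingGroup (Fin 6)).subtype) h1
  rw [map_commutator, ← MonoidHom.range_eq_map, range_subtype] at h2
  exact h2

theorem card_perm6 : Nat.card (Equiv.Perm (Fin 6)) = 720 := by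
  rw [Nat.card_eq_fintype_card, Fintype.card_perm, Fintype.card_fin]; rfl

/-- **A subgroup of `S₆` of odd index is solvable or `S₆`.** -/
theorem odd_index {S : Subgroup (Equiv.Perm (Fin 6))} (h : Odd S.index) : Group.IsSolvable S ∨ S = ⊤ := by
  have h1 := S.card_mul_index
  rw [card_perm6] at h1
  have h2 : S.index ∣ 45 := by
    have h3 : S.index ∣ 45 * 16 := Dvd.intro_left _ h1
    have h4 : Nat.Coprime S.index 16 := by
      have : Nat.Coprime S.index (2 ^ 4) := Nat.Coprime.pow_right 4 (Nat.coprime_two_right.2 h)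
      exact this
    exact h4.dvd_of_dvd_mul_right h3
  have h5 : S.index ≤ 45 := Nat.le_of_dvd (by norm_num) h2
  have h6 : S.index = 1 ∨ S.index = 3 ∨ S.index = 5 ∨ S.index = 9 ∨ S.index = 15 ∨ S.index = 45 := by
    interval_cases hS : S.index <;> revert h2 <;> decide
  rcases h6 with h7 | h7 | h7 | h7 | h7 | h7
  · right; exact Subgroup.index_eq_one.1 h7
  · exfalso
    rw [h7] at h1
    have h8 : Nat.card (Equiv.Perm (Fin 6) ⧸ S) = 3 := h7
    have hfin : Finite (Equiv.Perm (Fin 6) ⧸ S) := Nat.finite_of_card_ne_zero (by rw [h8]; norm_num)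
    -- the action on the cosets
    let f : Equiv.Perm (Fin 6) →* Equiv.Perm (Equiv.Perm (Fin 6) ⧸ S) := MulAction.toPermHom _ _
    have hsol : Group.IsSolvable f.range := by
      have h9 : Nat.card (Equiv.Perm (Equiv.Perm (Fin 6) ⧸ S)) = 6 := by
        classical
        have : Fintype (Equiv.Perm (Fin 6) ⧸ S) := Fintype.ofFinite _
        rw [Nat.card_eq_fintype_card, Fintype.card_perm, ← Nat.card_eq_fintype_card, h8]; rfl
      have h10 : Nat.card f.range ∣ 6 := (card_subgroup_dvd_card f.range).trans (dvd_of_eq h9)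
      exact H5.Small.solvable_of_lt _ rfl (lt_of_le_of_lt (Nat.le_of_dvd (by norm_num) h10) (by norm_num))
    have h11 : alternatingGroup (Fin 6) ≤ f.ker := by
      have h12 := H1.Tight.map_eq_bot_of_perfect f.rangeRestrict perfect_alt6
      rwa [Subgroup.map_eq_bot_iff, MonoidHom.ker_rangeRestrict] at h12
    have h13 : alternatingGroup (Fin 6) ≤ S := by
      intro x hx
      have h14 := MonoidHom.mem_ker.1 (h11 hx)
      have h15 := congrArg (fun σ : Equiv.Perm (Equiv.Perm (Fin 6) ⧸ S) => σ ((1 : Equiv.Perm (Fin 6)) : _ ⧸ S)) h14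
      have h16 : ((x * 1 : Equiv.Perm (Fin 6)) : Equiv.Perm (Fin 6) ⧸ S) = ((1 : Equiv.Perm (Fin 6)) : _ ⧸ S) := h15
      rw [QuotientGroup.eq, mul_one, mul_one, inv_mem_iff] at h16
      exact h16
    have h17 := card_dvd_of_le h13
    have h18 : Nat.card (alternatingGroup (Fin 6)) = 360 := by
      rw [Nat.card_eq_fintype_card, card_alternatingGroup, Fintype.card_fin]; rfl
    rw [h18] at h17
    have h19 : Nat.card S = 240 := by omega
    rw [h19] at h17
    norm_num at h17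
  · left
    refine GH.C2SevenTop.solvable_of_dvd Nat.prime_two Nat.prime_three (a := 4) (b := 2) ?_
    rw [h7] at h1
    have : Nat.card S = 144 := by omega
    rw [this]; norm_num
  · left
    refine GH.C2SevenTop.solvable_of_dvd Nat.prime_two Nat.prime_five (a := 4) (b := 1) ?_
    rw [h7] at h1
    have : Nat.card S = 80 := by omega
    rw [this]; norm_num
  · left
    refine GH.C2SevenTop.solvable_of_dvd Nat.prime_two Nat.prime_three (a := 4) (b := 2) ?_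
    rw [h7] at h1
    have : Nat.card S = 48 := by omega
    rw [this]; norm_num
  · left
    refine GH.C2SevenTop.solvable_of_dvd Nat.prime_two Nat.prime_three (a := 4) (b := 2) ?_
    rw [h7] at h1
    have : Nat.card S = 16 := by omega
    rw [this]; norm_num

/-- `IsHatA6` is invariant under isomorphisms -/
theorem HatIso.congr {X Z : Type*} [Group X] [Group Z] (e : X ≃* Z) (h : IsHatA6 X) : IsHatA6 Z := by
  obtain ⟨⟨h1, h2⟩, h3, ⟨f⟩⟩ := h
  have hc : (center X).map e.toMonoidHom = center Z := by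
    ext z
    rw [mem_center_iff]
    constructor
    · rintro ⟨x, hx, rfl⟩ w
      obtain ⟨y, rfl⟩ := e.surjective w
      have := mem_center_iff.1 hx y
      show e y * e x = e x * e y
      rw [← map_mul, ← map_mul, this]
    · intro hz
      refine ⟨e.symm z, ?_, e.apply_symm_apply z⟩
      rw [SetLike.mem_coe, mem_center_iff]
      intro y
      apply e.injective
      rw [map_mul, map_mul, e.apply_symm_apply]
      exact hz _
  let q : (X ⧸ center X) ≃* (Z ⧸ center Z) := QuotientGroup.congr _ _ e hc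
  refine ⟨⟨?_, H5.Small.simple_of_equiv q⟩, ?_, ⟨q.symm.trans f⟩⟩
  · rw [Group.isPerfect_def] at h1 ⊢
    have h4 : (commutator X).map e.toMonoidHom = commutator Z := by
      rw [commutator_def, commutator_def, map_commutator, ← MonoidHom.range_eq_map,
        MonoidHom.range_eq_top.2 e.surjective]
    rw [← h4, h1, ← MonoidHom.range_eq_map, MonoidHom.range_eq_top.2 e.surjective]
  · rw [← h3, ← hc]
    exact (Nat.card_congr ((center X).equivMapOfInjective _ e.injective).toEquiv).symm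

/-- `π : Y → S₆` is surjective with kernel of order 3, `a` and `b` are even, centralize the kernel and
`1 ≠ ⁅a, b⁆ ∈ ker π` -/
structure Hat {Y : Type*} [Group Y] (π : Y →* Equiv.Perm (Fin 6)) (a b : Y) : Prop where
  surj : Function.Surjective π
  ker : Nat.card π.ker = 3
  ea : π a ∈ alternatingGroup (Fin 6)
  eb : π b ∈ alternatingGroup (Fin 6)
  ca : ∀ c ∈ π.ker, a * c = c * a
  cb : ∀ c ∈ π.ker, b * c = c * b
  comm : π a * π b = π b * π a
  ne : a * b ≠ b * a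

section

variable {Y : Type*} [Group Y] {π : Y →* Equiv.Perm (Fin 6)} {a b : Y} (h : Hat π a b)
include h

theorem Hat.finite : Finite Y := by
  have h1 : Finite π.ker := Nat.finite_of_card_ne_zero (by rw [h.ker]; norm_num)
  have h2 : π.ker.FiniteIndex := ⟨by
    rw [Subgroup.index_ker]
    exact Nat.card_pos.ne'⟩
  exact (finite_iff_finite_and_finiteIndex π.ker).2 ⟨h1, h2⟩

theorem Hat.comm_mem : a * b * a⁻¹ * b⁻¹ ∈ π.ker := by
  rw [MonoidHom.mem_ker, map_mul, map_mul, map_mul, map_inv, map_inv, h.comm]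
  group

theorem Hat.comm_ne : a * b * a⁻¹ * b⁻¹ ≠ 1 := by
  intro e
  apply h.ne
  calc a * b = a * b * a⁻¹ * b⁻¹ * (b * a) := by group
    _ = b * a := by rw [e, one_mul]

/-- a subgroup meeting the kernel nontrivially contains the kernel -/
theorem Hat.ker_le {S : Subgroup Y} {x : Y} (hx : x ∈ S) (hk : x ∈ π.ker) (h1 : x ≠ 1) : π.ker ≤ S := by
  have h3 : Fact (Nat.Prime 3) := ⟨Nat.prime_three⟩
  have hp : Fact (Nat.card π.ker).Prime := ⟨by rw [h.ker]; exact Nat.prime_three⟩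
  rcases (S.subgroupOf π.ker).eq_bot_or_eq_top_of_prime_card with h4 | h4
  · exfalso
    have h5 : (⟨x, hk⟩ : π.ker) ∈ S.subgroupOf π.ker := mem_subgroupOf.2 hx
    rw [h4, mem_bot] at h5
    exact h1 (congrArg Subtype.val h5)
  · exact subgroupOf_eq_top.1 h4

theorem Hat.ker_comm {c d : Y} (hc : c ∈ π.ker) (hd : d ∈ π.ker) : c * d = d * c := by
  have h3 : Fact (Nat.Prime 3) := ⟨Nat.prime_three⟩
  have h4 : IsCyclic π.ker := isCyclic_of_prime_card h.ker
  have h5 : ∀ x y : π.ker, x * y = y * x := fun x y => by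
    have := h4.isMulCommutative
    exact this.is_comm.comm x y
  exact congrArg Subtype.val (h5 ⟨c, hc⟩ ⟨d, hd⟩)

/-- a subgroup mapping onto `S₆` is everything -/
theorem Hat.eq_top {S : Subgroup Y} (hS : S.map π = ⊤) : S = ⊤ := by
  have ha : π a ∈ S.map π := by rw [hS]; exact mem_top _
  have hb : π b ∈ S.map π := by rw [hS]; exact mem_top _
  obtain ⟨a', ha', ea⟩ := ha
  obtain ⟨b', hb', eb⟩ := hb
  have hca : a⁻¹ * a' ∈ π.ker := by rw [MonoidHom.mem_ker, map_mul, map_inv, ea, inv_mul_cancel]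
  have hcb : b⁻¹ * b' ∈ π.ker := by rw [MonoidHom.mem_ker, map_mul, map_inv, eb, inv_mul_cancel]
  set c := a⁻¹ * a' with hc
  set d := b⁻¹ * b' with hd
  have e1 : a' = a * c := by rw [hc]; group
  have e2 : b' = b * d := by rw [hd]; group
  have hac := h.ca c hca
  have had := h.ca d hcb
  have hbc := h.cb c hca
  have hbd := h.cb d hcb
  have hcd := h.ker_comm hca hcb
  have e3 : a' * b' = (a * b) * (c * d) := by
    rw [e1, e2]
    calc a * c * (b * d) = a * (c * b) * d := by group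
      _ = a * (b * c) * d := by rw [hbc]
      _ = _ := by group
  have e4 : b' * a' = (b * a) * (c * d) := by
    rw [e1, e2]
    calc b * d * (a * c) = b * (d * a) * c := by group
      _ = b * (a * d) * c := by rw [had]
      _ = (b * a) * (d * c) := by group
      _ = _ := by rw [hcd]
  have e5 : a' * b' * a'⁻¹ * b'⁻¹ = a * b * a⁻¹ * b⁻¹ := by
    calc a' * b' * a'⁻¹ * b'⁻¹ = (a' * b') * (b' * a')⁻¹ := by group
      _ = a * b * (c * d) * (b * a * (c * d))⁻¹ := by rw [e3, e4]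
      _ = _ := by group
  have h1 : a' * b' * a'⁻¹ * b'⁻¹ ∈ S := mul_mem (mul_mem (mul_mem ha' hb') (inv_mem ha')) (inv_mem hb')
  rw [e5] at h1
  have hk := h.ker_le h1 h.comm_mem h.comm_ne
  rw [eq_top_iff]
  intro y _
  have h2 : π y ∈ S.map π := by rw [hS]; exact mem_top _
  obtain ⟨s, hs, e⟩ := h2
  have h3 : s⁻¹ * y ∈ π.ker := by rw [MonoidHom.mem_ker, map_mul, map_inv, e, inv_mul_cancel]
  have h4 : y = s * (s⁻¹ * y) := by group
  rw [h4]
  exact mul_mem hs (hk h3)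

theorem Hat.odd {S : Subgroup Y} (hS : Odd S.index) : Group.IsSolvable S ∨ S = ⊤ := by
  have := h.finite
  have h1 : Odd (S.map π).index := by
    rw [← Nat.not_even_iff_odd, even_iff_two_dvd] at hS ⊢
    exact fun h2 => hS (h2.trans (index_map_dvd _ h.surj))
  rcases odd_index h1 with h2 | h2
  · left
    have h3 : Group.IsSolvable π.ker := by
      refine Group.isSolvable_of_comm fun x y => ?_
      exact Subtype.ext (h.ker_comm x.2 y.2)
    let f : S →* S.map π := (π.comp S.subtype).codRestrict _ (fun x => ⟨x, x.2, rfl⟩)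
    let g : f.ker →* π.ker := (S.subtype.comp f.ker.subtype).codRestrict π.ker (fun x => by
      have := congrArg Subtype.val (MonoidHom.mem_ker.1 x.2)
      exact MonoidHom.mem_ker.2 this)
    have hg : Function.Injective g := by
      intro x y hxy
      have := congrArg Subtype.val hxy
      exact Subtype.ext (Subtype.ext this)
    have h4 : Group.IsSolvable f.ker := Group.isSolvable_of_isSolvable_injective hg
    exact Group.isSolvable_of_ker_le_range f.ker.subtype f (by rw [range_subtype])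
  · right; exact h.eq_top h2

/-- the preimage of `A₆` -/
def NN (π : Y →* Equiv.Perm (Fin 6)) : Subgroup Y := (alternatingGroup (Fin 6)).comap π

omit h in
theorem mem_NN {x : Y} : x ∈ NN π ↔ π x ∈ alternatingGroup (Fin 6) := Iff.rfl

omit h in
instance NN_normal : (NN π).Normal := by
  unfold NN
  infer_instance

omit h in
theorem ker_le_NN : π.ker ≤ NN π := by
  intro x hx
  rw [mem_NN, MonoidHom.mem_ker.1 hx]
  exact one_mem _

theorem Hat.map_NN : (NN π).map π = alternatingGroup (Fin 6) := map_comap_eq_self_of_surjective h.surj _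

theorem Hat.perfect : ⁅NN π, NN π⁆ = NN π := by
  apply le_antisymm (commutator_le_right _ _)
  have h1 : a * b * a⁻¹ * b⁻¹ ∈ ⁅NN π, NN π⁆ := commutator_mem_commutator (mem_NN.2 h.ea) (mem_NN.2 h.eb)
  have h2 := h.ker_le h1 h.comm_mem h.comm_ne
  intro x hx
  have h3 : π x ∈ (⁅NN π, NN π⁆).map π := by
    rw [map_commutator, h.map_NN, perfect_alt6]
    exact hx
  obtain ⟨y, hy, e⟩ := h3
  have h4 : y⁻¹ * x ∈ π.ker := by rw [MonoidHom.mem_ker, map_mul, map_inv, e, inv_mul_cancel]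
  have h5 : x = y * (y⁻¹ * x) := by group
  rw [h5]
  exact mul_mem hy (h2 h4)

theorem Hat.central {x c : Y} (hx : x ∈ NN π) (hc : c ∈ π.ker) : x * c = c * x := by
  have := h.finite
  have h3 : Fact (Nat.Prime 3) := ⟨Nat.prime_three⟩
  have h4 : IsCyclic π.ker := isCyclic_of_prime_card h.ker
  let f : Y →* MulAut π.ker := MulAut.conjNormal
  have hs : Group.IsSolvable (MulAut π.ker) := by
    refine Group.isSolvable_of_comm fun u v => ?_
    apply (IsCyclic.mulAutMulEquiv π.ker).injective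
    rw [map_mul, map_mul, mul_comm]
  have h5 := H1.Tight.map_eq_bot_of_perfect f h.perfect
  rw [Subgroup.map_eq_bot_iff] at h5
  have h6 := MonoidHom.mem_ker.1 (h5 hx)
  have h7 := congrArg (fun α : MulAut π.ker => ((α ⟨c, hc⟩ : π.ker) : Y)) h6
  have h8 : x * c * x⁻¹ = c := by
    have h9 := MulAut.conjNormal_apply (H := π.ker) x ⟨c, hc⟩
    rw [← h9]; exact h7
  calc x * c = x * c * x⁻¹ * x := by group
    _ = c * x := by rw [h8]

/-- the homomorphism onto `A₆` -/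
def qq (π : Y →* Equiv.Perm (Fin 6)) : NN π →* alternatingGroup (Fin 6) :=
  (π.comp (NN π).subtype).codRestrict _ (fun x => x.2)

theorem Hat.qq_surj : Function.Surjective (qq π) := by
  rintro ⟨y, hy⟩
  obtain ⟨x, rfl⟩ := h.surj y
  exact ⟨⟨x, hy⟩, rfl⟩

theorem Hat.qq_ker : (qq π).ker = center (NN π) := by
  ext ⟨x, hx⟩
  rw [MonoidHom.mem_ker, mem_center_iff]
  constructor
  · intro e ⟨y, hy⟩
    have e1 : π x = 1 := congrArg Subtype.val e
    exact Subtype.ext (h.central hy (MonoidHom.mem_ker.2 e1))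
  · intro hc
    have h1 : qq π ⟨x, hx⟩ ∈ center (alternatingGroup (Fin 6)) := by
      rw [mem_center_iff]
      intro w
      obtain ⟨v, rfl⟩ := h.qq_surj w
      rw [← map_mul, ← map_mul, hc v]
    have h2 : center (alternatingGroup (Fin 6)) = ⊥ := by
      rcases simple_alt6.eq_bot_or_eq_top_of_normal (center (alternatingGroup (Fin 6))) inferInstance with h3 | h3
      · exact h3
      · exfalso
        apply not_solvable_alt6
        refine Group.isSolvable_of_comm fun u v => ?_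
        have h4 : u ∈ center (alternatingGroup (Fin 6)) := by rw [h3]; exact mem_top u
        exact (mem_center_iff.1 h4 v).symm
    rw [h2, mem_bot] at h1
    exact h1

theorem Hat.center_card : Nat.card (center (NN π)) = 3 := by
  rw [← h.qq_ker, ← h.ker]
  apply Nat.card_congr
  refine ⟨fun x => ⟨x.1.1, MonoidHom.mem_ker.2 (congrArg Subtype.val (MonoidHom.mem_ker.1 x.2))⟩,
    fun x => ⟨⟨x.1, ker_le_NN x.2⟩, MonoidHom.mem_ker.2 (Subtype.ext (MonoidHom.mem_ker.1 x.2))⟩, ?_, ?_⟩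
  · intro x; rfl
  · intro x; rfl

theorem Hat.quot : Nonempty (NN π ⧸ center (NN π) ≃* alternatingGroup (Fin 6)) :=
  ⟨(QuotientGroup.quotientMulEquivOfEq h.qq_ker.symm).trans
    (QuotientGroup.quotientKerEquivOfSurjective (qq π) h.qq_surj)⟩

theorem Hat.hatA6 : IsHatA6 (NN π) := by
  refine ⟨⟨?_, ?_⟩, h.center_card, h.quot⟩
  · rw [Group.isPerfect_def, commutator_def]
    apply map_injective (NN π).subtype_injective
    rw [map_commutator, ← MonoidHom.range_eq_map, range_subtype]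
    exact h.perfect
  · obtain ⟨e⟩ := h.quot
    exact H5.Small.simple_of_equiv e.symm

theorem Hat.pCore : pCore 2 (NN π) = ⊥ := by
  have hfin := h.finite
  have h2 : Fact (Nat.Prime 2) := ⟨Nat.prime_two⟩
  have h1 : (Cfsg.pCore 2 (NN π)).map (qq π) ≤ Cfsg.pCore 2 (alternatingGroup (Fin 6)) :=
    Cfsg.Agent.Lib.Cores.le_pCore ((Cfsg.Agent.Lib.Cores.pCore_normal 2).map _ h.qq_surj)
      ((Cfsg.Agent.Lib.Cores.pCore_isPGroup 2).map _)
  rw [H5.Small.pCore_eq_bot_of_simple not_solvable_alt6, le_bot_iff, Subgroup.map_eq_bot_iff, h.qq_ker] at h1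
  have h3 := Cfsg.Agent.Lib.Cores.pCore_isPGroup (G := NN π) 2
  obtain ⟨n, hn⟩ := IsPGroup.iff_card.1 h3
  have h4 := card_dvd_of_le h1
  rw [hn, h.center_card] at h4
  have h5 : n = 0 := by
    by_contra h6
    have h7 : 2 ∣ 2 ^ n := dvd_pow_self 2 h6
    have h8 := h7.trans h4
    norm_num at h8
  rw [h5, pow_zero] at hn
  exact Subgroup.card_eq_one.1 hn

theorem Hat.tame : H1.Tight.Tame (NN π) := by
  apply H1.Tight.Tame.of_quasisimple h.hatA6.1
  let f : Y →* ℤˣ := Equiv.Perm.sign.comp π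
  have hf : NN π = f.ker := by
    ext x
    rw [mem_NN, Equiv.Perm.mem_alternatingGroup, MonoidHom.mem_ker]
    rfl
  let e : (Y ⧸ NN π) ≃* f.range :=
    (QuotientGroup.quotientMulEquivOfEq hf).trans (QuotientGroup.quotientKerEquivRange f)
  exact Group.isSolvable_of_isSolvable_injective (f := e.toMonoidHom) e.injective

/-- **The members of `ℒ(G, T)` in `M`**, if `M` maps onto `Y` with kernel a 2-group. -/
theorem Hat.row {G : Type*} [Group G] [Finite G] (T : Sylow 2 G) {L M : Subgroup G} (hL : L ∈ calL (T : Subgroup G))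
    (hTM : (T : Subgroup G) ≤ M) (hLM : L ≤ M) (ψ : M →* Y) (hψ : Function.Surjective ψ) (hker : IsPGroup 2 ψ.ker) :
    L ⊔ T ≤ normalizer (L : Set G) ∧ IsHatA6 (L ⧸ Cfsg.pCore 2 L) ∧
      L.subgroupOf (L ⊔ T) = perfectCore ↥(L ⊔ T) := by
  have hfin := h.finite
  obtain ⟨h1, ⟨e⟩, h3⟩ := H1.Tight.calL_of_odd T hL hTM hLM ψ hψ hker h.tame h.pCore (by
    intro Q0 hQ
    rcases h.odd hQ with h4 | h4
    · exact Or.inl h4
    · right; rw [h4]; exact le_top)
  exact ⟨h1, HatIso.congr e.symm h.hatA6, h3⟩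

end

end Cfsg.Agent.H6.HatSix
end

-- part: H6/He/HexW
section
/-!
# The stabilizer `3·S₆` of a hyperoval of `PG(2, 4)` and its use for normalizers of subgroups of order 64 (helper6)

`W = F₄³` (as an additive group), `cls` the number of the point of the hyperoval containing a vector.
`GW` : the additive automorphisms preserving the 18 vectors of the hyperoval; `hat`: `GW` is `3·S₆`.
`Frame.row`: `G` a finite group, `V ≤ G` of order 64 with coordinates `e : W → V` such that the 18 vectors are the ones not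
conjugate to `z`.
-/

set_option autoImplicit false

namespace Cfsg.Agent.H6.HexW

open Subgroup Cfsg Cfsg.Agent.H6.HatSix

abbrev F := ZMod 2 × ZMod 2
abbrev W := F × F × F

/-- multiplication by `ω` -/
def om (a : F) : F := (a.2, a.1 + a.2)

/-- the point of the hyperoval containing the vector -/
def cls (v : W) : Option (Fin 6) :=
  if v.2.1 = 0 ∧ v.2.2 = 0 then (if v.1 = 0 then none else some 0)
  else if v.1 = 0 ∧ v.2.2 = 0 then some 1
  else if v.1 = 0 ∧ v.2.1 = 0 then some 2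
  else if v.2.1 = v.1 ∧ v.2.2 = v.1 then some 3
  else if v.2.1 = om v.1 ∧ v.2.2 = om (om v.1) then some 4
  else if v.2.1 = om (om v.1) ∧ v.2.2 = om v.1 then some 5
  else none

def e1 : F := (1, 0)
def ew : F := (0, 1)
def eb : F := (1, 1)

/-- representatives of the points -/
def rep : Fin 6 → W := ![(e1, 0, 0), (0, e1, 0), (0, 0, e1), (e1, e1, e1), (e1, ew, eb), (e1, eb, ew)]

theorem cls_rep : ∀ i, cls (rep i) = some i := by decide +kernel

private noncomputable def _root_.Cfsg.Agent.KO4074f71.k0 : type_of% @Decidable.decide := @(fun x0 x1 => @Decidable.rec.{1} _ @(fun x2 => @Bool) @(fun x2 => @Bool.false) @(fun x2 => @Bool.true) @x1)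
private theorem _root_.Cfsg.Agent.KO4074f71.e0 : @Decidable.decide = @_root_.Cfsg.Agent.KO4074f71.k0 := by delta _root_.Cfsg.Agent.KO4074f71.k0; rfl'
private noncomputable def _root_.Cfsg.Agent.KO4074f71.k1.{ku0, ku1} : type_of% @Quot.rec.{ku0, ku1} := @(fun x0 x1 x2 x3 x4 x5 => @Eq.rec.{ku1, ku0} (@Quot.{ku0} _ @x1) (@PSigma.fst.{ku0, ku1} _ _ (@Quot.lift.{ku0, (max (max 1 ku1) ku0)} _ _ _ (@Quot.indep.{ku0, ku1} _ _ _ @x3) (@Quot.indepCoherent.{ku0, ku1} _ _ _ @x3 @x4) @x5)) @(fun x6 x7 => @x2 @x6) (@PSigma.snd.{ku0, ku1} _ _ (@Quot.lift.{ku0, (max (max 1 ku1) ku0)} _ _ _ (@Quot.indep.{ku0, ku1} _ _ _ @x3) (@Quot.indepCoherent.{ku0, ku1} _ _ _ @x3 @x4) @x5)) @x5 (@Quot.liftIndepPr1.{ku0, ku1} _ _ _ @x3 @x4 @x5))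
private theorem _root_.Cfsg.Agent.KO4074f71.e1.{ku0, ku1} : @Quot.rec.{ku0, ku1} = @_root_.Cfsg.Agent.KO4074f71.k1.{ku0, ku1} := by delta _root_.Cfsg.Agent.KO4074f71.k1; rfl'
private noncomputable def _root_.Cfsg.Agent.KO4074f71.k2.{ku0, ku1} : type_of% @Quot.recOnSubsingleton.{ku0, ku1} := @(fun x0 x1 x2 x3 x4 x5 => @Cfsg.Agent.KO4074f71.k1.{ku0, ku1} _ _ @(fun x6 => @x2 @x6) @(fun x6 => @x5 @x6) (@Quot.recOnSubsingleton._proof_1.{ku1, ku0} _ _ _ _ @x5) @x4)
private theorem _root_.Cfsg.Agent.KO4074f71.e2.{ku0, ku1} : @Quot.recOnSubsingleton.{ku0, ku1} = @_root_.Cfsg.Agent.KO4074f71.k2.{ku0, ku1} := by delta _root_.Cfsg.Agent.KO4074f71.k2; rewrite [← Cfsg.Agent.KO4074f71.e1.{ku0, ku1}]; rfl'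
private theorem _root_.Cfsg.Agent.KO4074f71.e3.{ku, kv} {α : Type kv} {M : List α → Sort ku} (φ : ∀ l, M l) {z : M List.nil} {s : ∀ a l, M l → M (List.cons a l)} (h0 : φ List.nil = z) (hs : ∀ a l, φ (List.cons a l) = s a l (φ l)) (l : List α) : φ l = @List.rec α M z s l := List.rec h0 (fun a l ih => (hs a l).trans (congrArg (s a l) ih)) l
private noncomputable def _root_.Cfsg.Agent.KO4074f71.k4.{ku0} : type_of% @List.decidableBAll.{ku0} := @(fun x0 x1 x2 x3 => @List.rec.{1, ku0} @x0 @(fun x4 => @Decidable ((x5 : @x0) → (@Membership.mem.{ku0, ku0} _ _ _ @x4 @x5) → @x1 @x5)) (@Decidable.isTrue _ (@List.decidableBAll._proof_1.{ku0} _ @x1)) @(fun x4 x5 x6 => @Decidable.rec.{1} _ @(fun x7 => @Decidable ((x8 : @x0) → (@Membership.mem.{ku0, ku0} _ _ _ (@x4 :: @x5) @x8) → @x1 @x8)) @(fun x7 => @Decidable.isFalse _ (@List.decidableBAll._proof_4.{ku0} _ @x1 @x4 @x5 @x7)) @(fun x7 => @Decidable.rec.{1} _ @(fun x8 => @Decidable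 ((x9 : @x0) → (@Membership.mem.{ku0, ku0} _ _ _ (@x4 :: @x5) @x9) → @x1 @x9)) @(fun x8 => @Decidable.isFalse _ (@List.decidableBAll._proof_3.{ku0} _ @x1 @x4 @x5 @x8)) @(fun x8 => @Decidable.isTrue _ (@List.decidableBAll._proof_2.{ku0} _ @x1 @x4 @x5 @x7 @x8)) @x6) (@x2 @x4)) @x3)
private theorem _root_.Cfsg.Agent.KO4074f71.e4.{ku0} : @List.decidableBAll.{ku0} = @_root_.Cfsg.Agent.KO4074f71.k4.{ku0} := by delta _root_.Cfsg.Agent.KO4074f71.k4; funext a0 a1 a2 a3; refine (_root_.Cfsg.Agent.KO4074f71.e3 (fun a3 => @List.decidableBAll.{ku0} a0 a1 a2 a3) ?_ (fun c0 c1 => ?_) a3 :) <;> (rfl')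
private noncomputable def _root_.Cfsg.Agent.KO4074f71.k5.{ku0} : type_of% @Multiset.decidableForallMultiset.{ku0} := @(fun (x0 : Sort (ku0+1)) (x1 : @Multiset.{ku0} @x0) (x2 : (x0 → Prop)) (x3 : ((x3 : x0) → @Decidable (@x2 @x3))) => @Cfsg.Agent.KO4074f71.k2.{(ku0+1), 1} (@List.{ku0} @x0) (@Setoid.r.{(ku0+1)} (@List.{ku0} @x0) (@List.isSetoid.{ku0} @x0)) @(fun (x4 : @Quotient.{(ku0+1)} (@List.{ku0} @x0) (@List.isSetoid.{ku0} @x0)) => @Decidable ((x5 : x0) → ((@Membership.mem.{ku0, ku0} @x0 (@Multiset.{ku0} @x0) (@Multiset.instMembership.{ku0} @x0) @x4 @x5) → @x2 @x5))) (@Multiset.decidableForallMultiset._proof_2.{ku0} @x0 @x2) @x1 @(fun (x4 : @List.{ku0} @x0) => @Decidable.rec.{1} ((x5 : x0) → ((@Membership.mem.{ku0, ku0} @x0 (@List.{ku0} @x0) (@List.instMembership.{ku0} @x0) @x4 @x5) → @x2 @x5)) @(fun (x5 : @Decidable ((x5 : x0) → ((@Membership.mem.{ku0, ku0} @x0 (@List.{ku0} @x0) (@List.instMembership.{ku0} @x0) @x4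 @x5) → @x2 @x5))) => @Decidable ((x6 : x0) → ((@Membership.mem.{ku0, ku0} @x0 (@Multiset.{ku0} @x0) (@Multiset.instMembership.{ku0} @x0) (@Quotient.mk.{(ku0+1)} (@List.{ku0} @x0) (@List.isSetoid.{ku0} @x0) @x4) @x6) → @x2 @x6))) @(fun (x5 : @Not ((x5 : x0) → ((@Membership.mem.{ku0, ku0} @x0 (@List.{ku0} @x0) (@List.instMembership.{ku0} @x0) @x4 @x5) → @x2 @x5))) => @Decidable.isFalse ((x6 : x0) → ((@Membership.mem.{ku0, ku0} @x0 (@Multiset.{ku0} @x0) (@Multiset.instMembership.{ku0} @x0) (@Quotient.mk.{(ku0+1)} (@List.{ku0} @x0) (@List.isSetoid.{ku0} @x0) @x4) @x6) → @x2 @x6)) (@decidable_of_decidable_of_iff._proof_1 ((x6 : x0) → ((@Membership.mem.{ku0, ku0} @x0 (@List.{ku0} @x0) (@List.instMembership.{ku0} @x0) @x4 @x6) → @x2 @x6)) ((x6 : x0) → ((@Membership.mem.{ku0, ku0} @x0 (@Multiset.{ku0} @x0) (@Multiset.instMembership.{ku0} @x0) (@Quotient.mk.{(ku0+1)} (@List.{ku0} @x0) (@List.isSetoid.{ku0} @x0) @x4) @x6) → @x2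 @x6)) (@Multiset.decidableForallMultiset._proof_1.{ku0} @x0 @x2 @x4) @x5)) @(fun (x5 : ((x5 : x0) → ((@Membership.mem.{ku0, ku0} @x0 (@List.{ku0} @x0) (@List.instMembership.{ku0} @x0) @x4 @x5) → @x2 @x5))) => @Decidable.isTrue ((x6 : x0) → ((@Membership.mem.{ku0, ku0} @x0 (@Multiset.{ku0} @x0) (@Multiset.instMembership.{ku0} @x0) (@Quotient.mk.{(ku0+1)} (@List.{ku0} @x0) (@List.isSetoid.{ku0} @x0) @x4) @x6) → @x2 @x6)) (@Iff.mp ((x6 : x0) → ((@Membership.mem.{ku0, ku0} @x0 (@List.{ku0} @x0) (@List.instMembership.{ku0} @x0) @x4 @x6) → @x2 @x6)) ((x6 : x0) → ((@Membership.mem.{ku0, ku0} @x0 (@Multiset.{ku0} @x0) (@Multiset.instMembership.{ku0} @x0) (@Quotient.mk.{(ku0+1)} (@List.{ku0} @x0) (@List.isSetoid.{ku0} @x0) @x4) @x6) → @x2 @x6)) (@Multiset.decidableForallMultiset._proof_1.{ku0} @x0 @x2 @x4) @x5)) (@Cfsg.Agent.KO4074f71.k4.{ku0} @x0 @x2 @x3 @x4)))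
private theorem _root_.Cfsg.Agent.KO4074f71.e5.{ku0} : @Multiset.decidableForallMultiset.{ku0} = @_root_.Cfsg.Agent.KO4074f71.k5.{ku0} := by delta _root_.Cfsg.Agent.KO4074f71.k5; rewrite [← Cfsg.Agent.KO4074f71.e4.{ku0}, ← Cfsg.Agent.KO4074f71.e2.{(ku0+1), 1}]; rfl'
private noncomputable def _root_.Cfsg.Agent.KO4074f71.k9.{ku0} : type_of% @Multiset.decidableDforallMultiset.{ku0} := @(fun x0 x1 x2 x3 => @Decidable.rec.{1} _ @(fun x4 => @Decidable ((x5 : @x0) → (x6 : @Membership.mem.{ku0, ku0} _ _ _ @x1 @x5) → @x2 @x5 @x6)) @(fun x4 => @Decidable.isFalse _ (@decidable_of_decidable_of_iff._proof_1 _ _ (@Multiset.decidableDforallMultiset._proof_2.{ku0} _ _ _) @x4)) @(fun x4 => @Decidable.isTrue _ (@Iff.mp _ _ (@Multiset.decidableDforallMultiset._proof_2.{ku0} _ _ _) @x4)) (@Cfsg.Agent.KO4074f71.k5.{ku0} _ _ @(fun x4 => @x2 (@Subtype.val.{(ku0+1)} _ @(fun x5 => @Membership.mem.{ku0, ku0} _ _ _ @x1 @x5) @x4) (@Multiset.decidableDforallMultiset._proof_1.{ku0}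 _ _ @x4)) @(fun x4 => @x3 (@Subtype.val.{(ku0+1)} _ @(fun x5 => @Membership.mem.{ku0, ku0} _ _ _ @x1 @x5) @x4) (@Multiset.decidableDforallMultiset._proof_1.{ku0} _ _ @x4))))
private theorem _root_.Cfsg.Agent.KO4074f71.e9.{ku0} : @Multiset.decidableDforallMultiset.{ku0} = @_root_.Cfsg.Agent.KO4074f71.k9.{ku0} := by delta _root_.Cfsg.Agent.KO4074f71.k9; rewrite [← Cfsg.Agent.KO4074f71.e5.{ku0}]; rfl'
private noncomputable def _root_.Cfsg.Agent.KO4074f71.k10.{ku0} : type_of% @Finset.decidableDforallFinset.{ku0} := @(fun x0 x1 x2 x3 => @Cfsg.Agent.KO4074f71.k9.{ku0} _ _ _ @x3)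
private theorem _root_.Cfsg.Agent.KO4074f71.e10.{ku0} : @Finset.decidableDforallFinset.{ku0} = @_root_.Cfsg.Agent.KO4074f71.k10.{ku0} := by delta _root_.Cfsg.Agent.KO4074f71.k10; rewrite [← Cfsg.Agent.KO4074f71.e9.{ku0}]; rfl'
private noncomputable def _root_.Cfsg.Agent.KO4074f71.k11.{ku0} : type_of% @Fintype.decidableForallFintype.{ku0} := @(fun x0 x1 x2 x3 => @Decidable.rec.{1} _ @(fun x4 => @Decidable ((x5 : @x0) → @x1 @x5)) @(fun x4 => @Decidable.isFalse _ (@decidable_of_decidable_of_iff._proof_1 _ _ (@Fintype.decidableForallFintype._proof_1.{ku0} _ _ _) @x4)) @(fun x4 => @Decidable.isTrue _ (@Iff.mp _ _ (@Fintype.decidableForallFintype._proof_1.{ku0} _ _ _) @x4)) (@Cfsg.Agent.KO4074f71.k10.{ku0} _ _ @(fun x4 x5 => @x1 @x4) @(fun x4 x5 => @x2 @x4)))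
private theorem _root_.Cfsg.Agent.KO4074f71.e11.{ku0} : @Fintype.decidableForallFintype.{ku0} = @_root_.Cfsg.Agent.KO4074f71.k11.{ku0} := by delta _root_.Cfsg.Agent.KO4074f71.k11; rewrite [← Cfsg.Agent.KO4074f71.e10.{ku0}]; rfl'
private noncomputable def _root_.Cfsg.Agent.KO4074f71.k12 : type_of% @instDecidableForall := @(fun x0 x1 x2 x3 => @Decidable.rec.{1} _ @(fun x4 => @Decidable (@x0 → @x1)) @(fun x4 => @Decidable.isTrue _ @(fun x5 => @absurd.{0} _ _ @x5 @x4)) @(fun x4 => @Decidable.rec.{1} _ @(fun x5 => @Decidable (@x0 → @x1)) @(fun x5 => @Decidable.isFalse _ (@instDecidableForall._proof_1 _ _ @x4 @x5)) @(fun x5 => @Decidable.isTrue _ @(fun x6 => @x5)) @x3) @x2)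
private theorem _root_.Cfsg.Agent.KO4074f71.e12 : @instDecidableForall = @_root_.Cfsg.Agent.KO4074f71.k12 := by delta _root_.Cfsg.Agent.KO4074f71.k12; rfl'
private noncomputable def _root_.Cfsg.Agent.KO4074f71.k13 : type_of% @Bool.decEq := @(fun x0 x1 => @Bool.rec.{1} @(fun x2 => @Decidable (@Eq.{1} _ @x2 @x1)) (@Bool.rec.{1} @(fun x2 => @Decidable (@Eq.{1} _ @Bool.false @x2)) (@Decidable.isTrue _ (@rfl.{1} _ _)) (@Decidable.isFalse _ @(fun x2 => @Bool.noConfusion.{0} _ _ _ @x2)) @x1) (@Bool.rec.{1} @(fun x2 => @Decidable (@Eq.{1} _ @Bool.true @x2)) (@Decidable.isFalse _ @(fun x2 => @Bool.noConfusion.{0} _ _ _ @x2)) (@Decidable.isTrue _ (@rfl.{1} _ _)) @x1) @x0)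
private theorem _root_.Cfsg.Agent.KO4074f71.e13 : @Bool.decEq = @_root_.Cfsg.Agent.KO4074f71.k13 := by delta _root_.Cfsg.Agent.KO4074f71.k13; rfl'
private noncomputable def _root_.Cfsg.Agent.KO4074f71.k14 : type_of% @instDecidableEqBool := @Cfsg.Agent.KO4074f71.k13
private theorem _root_.Cfsg.Agent.KO4074f71.e14 : @instDecidableEqBool = @_root_.Cfsg.Agent.KO4074f71.k14 := by delta _root_.Cfsg.Agent.KO4074f71.k14; rewrite [← Cfsg.Agent.KO4074f71.e13]; rfl'
private noncomputable def _root_.Cfsg.Agent.KO4074f71.k15.{ku0} : type_of% @Option.isSome.{ku0} := @(fun x0 x1 => @Option.rec.{1, ku0} @x0 @(fun x2 => @Bool) @Bool.false @(fun x2 => @Bool.true) @x1)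
private theorem _root_.Cfsg.Agent.KO4074f71.e15.{ku0} : @Option.isSome.{ku0} = @_root_.Cfsg.Agent.KO4074f71.k15.{ku0} := by delta _root_.Cfsg.Agent.KO4074f71.k15; rfl'
private noncomputable def _root_.Cfsg.Agent.KO4074f71.k16 : type_of% @forall_prop_decidable := @(fun x0 x1 x2 x3 => @Decidable.rec.{1} _ @(fun x4 => @Decidable ((x5 : @x0) → @x1 @x5)) @(fun x4 => @Decidable.isTrue _ (@forall_prop_decidable._proof_2 _ @x1 @x4)) @(fun x4 => @Decidable.rec.{1} _ @(fun x5 => @Decidable ((x6 : @x0) → @x1 @x6)) @(fun x5 => @Decidable.isFalse _ (@decidable_of_decidable_of_iff._proof_1 _ _ (@forall_prop_decidable._proof_1 _ @x1 @x4) @x5)) @(fun x5 => @Decidable.isTrue _ (@Iff.mp _ _ (@forall_prop_decidable._proof_1 _ @x1 @x4) @x5)) (@x3 @x4)) @x2)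
private theorem _root_.Cfsg.Agent.KO4074f71.e16 : @forall_prop_decidable = @_root_.Cfsg.Agent.KO4074f71.k16 := by delta _root_.Cfsg.Agent.KO4074f71.k16; rfl'
private noncomputable def _root_.Cfsg.Agent.KO4074f71.k17 : type_of% @instDecidableIff := @(fun x0 x1 x2 x3 => @Decidable.rec.{1} _ @(fun x4 => @Decidable (@Iff @x0 @x1)) @(fun x4 => @Decidable.rec.{1} _ @(fun x5 => @Decidable (@Iff @x0 @x1)) @(fun x5 => @Decidable.isTrue _ (@instDecidableIff._proof_4 _ _ @x4 @x5)) @(fun x5 => @Decidable.isFalse _ (@instDecidableIff._proof_3 _ _ @x4 @x5)) @x3) @(fun x4 => @Decidable.rec.{1} _ @(fun x5 => @Decidable (@Iff @x0 @x1)) @(fun x5 => @Decidable.isFalse _ (@instDecidableIff._proof_2 _ _ @x4 @x5)) @(fun x5 => @Decidable.isTrue _ (@instDecidableIff._proof_1 _ _ @x4 @x5)) @x3) @x2)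
private theorem _root_.Cfsg.Agent.KO4074f71.e17 : @instDecidableIff = @_root_.Cfsg.Agent.KO4074f71.k17 := by delta _root_.Cfsg.Agent.KO4074f71.k17; rfl'
private noncomputable def _root_.Cfsg.Agent.KO4074f71.k18.{ku0} : type_of% @Option.instDecidableEq.{ku0} := @(fun x0 x1 x2 x3 => @Option.rec.{1, ku0} @x0 @(fun x4 => @Decidable (@Eq.{(ku0+1)} _ @x4 @x3)) (@Option.rec.{1, ku0} @x0 @(fun x4 => @Decidable (@Eq.{(ku0+1)} _ (@Option.none.{ku0} _) @x4)) (@Decidable.isTrue _ (@Option.instDecidableEq._proof_1.{ku0} _)) @(fun x4 => @Decidable.isFalse _ (@Option.instDecidableEq._proof_2.{ku0} _ @x4)) @x3) @(fun x4 => @Option.rec.{1, ku0} @x0 @(fun x5 => @Decidable (@Eq.{(ku0+1)} _ (@Option.some.{ku0} _ @x4) @x5)) (@Decidable.isFalse _ (@Option.instDecidableEq._proof_3.{ku0} _ @x4)) @(fun x5 => @Decidable.rec.{1} _ @(fun x6 => @Decidable (@Eq.{(ku0+1)} _ (@Option.some.{ku0} _ @x4) (@Option.some.{ku0} _ @x5))) @(fun x6 => @Decidable.isFalse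 _ (@Option.instDecidableEq._proof_5.{ku0} _ @x4 @x5 @x6)) @(fun x6 => @Decidable.isTrue _ (@Option.instDecidableEq._proof_4.{ku0} _ @x4 @x5 @x6)) (@x1 @x4 @x5)) @x3) @x2)
private theorem _root_.Cfsg.Agent.KO4074f71.e18.{ku0} : @Option.instDecidableEq.{ku0} = @_root_.Cfsg.Agent.KO4074f71.k18.{ku0} := by delta _root_.Cfsg.Agent.KO4074f71.k18; rfl'
private noncomputable def _root_.Cfsg.Agent.KO4074f71.k19 : type_of% @Nat.decEq := @(fun x0 x1 => @Bool.rec.{1} @(fun x2 => (@Eq.{1} _ (@Nat.beq @x0 @x1) @x2) → @Decidable (@Eq.{1} _ @x0 @x1)) @(fun x2 => @Decidable.isFalse _ (@Nat.ne_of_beq_eq_false _ _ @x2)) @(fun x2 => @Decidable.isTrue _ (@Nat.eq_of_beq_eq_true _ _ @x2)) (@Nat.beq @x0 @x1) (@Eq.refl.{1} _ (@Nat.beq @x0 @x1)))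
private theorem _root_.Cfsg.Agent.KO4074f71.e19 : @Nat.decEq = @_root_.Cfsg.Agent.KO4074f71.k19 := by delta _root_.Cfsg.Agent.KO4074f71.k19; rfl'
private noncomputable def _root_.Cfsg.Agent.KO4074f71.k20 : type_of% @instDecidableEqFin := @(fun x0 x1 x2 => @Decidable.rec.{1} _ @(fun x3 => @Decidable (@Eq.{1} _ @x1 @x2)) @(fun x3 => @Decidable.isFalse _ (@instDecidableEqFin._proof_1 @x0 @x1 @x2 @x3)) @(fun x3 => @Decidable.isTrue _ (@Fin.eq_of_val_eq _ _ _ @x3)) (@Cfsg.Agent.KO4074f71.k19 (@Fin.val _ @x1) (@Fin.val _ @x2)))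
private theorem _root_.Cfsg.Agent.KO4074f71.e20 : @instDecidableEqFin = @_root_.Cfsg.Agent.KO4074f71.k20 := by delta _root_.Cfsg.Agent.KO4074f71.k20; rewrite [← Cfsg.Agent.KO4074f71.e19]; rfl'
private noncomputable def _root_.Cfsg.Agent.KO4074f71.k21 : type_of% @instDecidableOr := @(fun x0 x1 x2 x3 => @Decidable.rec.{1} _ @(fun x4 => @Decidable (@Or @x0 @x1)) @(fun x4 => @Decidable.rec.{1} _ @(fun x5 => @Decidable (@Or @x0 @x1)) @(fun x5 => @Decidable.isFalse _ (@instDecidableOr._proof_1 _ _ @x4 @x5)) @(fun x5 => @Decidable.isTrue _ (@Or.inr _ _ @x5)) @x3) @(fun x4 => @Decidable.isTrue _ (@Or.inl _ _ @x4)) @x2)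
private theorem _root_.Cfsg.Agent.KO4074f71.e21 : @instDecidableOr = @_root_.Cfsg.Agent.KO4074f71.k21 := by delta _root_.Cfsg.Agent.KO4074f71.k21; rfl'
private noncomputable def _root_.Cfsg.Agent.KO4074f71.k22.{ku0, ku1} : type_of% @instDecidableEqProd.{ku0, ku1} := @(fun x0 x1 x2 x3 x4 x5 => @Prod.rec.{1, ku0, ku1} @x0 @x1 @(fun x6 => @Decidable (@Eq.{(max (ku1+1) (ku0+1))} _ @x6 @x5)) @(fun x6 x7 => @Prod.rec.{1, ku0, ku1} @x0 @x1 @(fun x8 => @Decidable (@Eq.{(max (ku1+1) (ku0+1))} _ ((@x6, @x7)) @x8)) @(fun x8 x9 => @Decidable.rec.{1} _ @(fun x10 => @Decidable (@Eq.{(max (ku1+1) (ku0+1))} _ ((@x6, @x7)) ((@x8, @x9)))) @(fun x10 => @Decidable.isFalse _ (@instDecidableEqProd._proof_3.{ku1, ku0} _ _ @x6 @x7 @x8 @x9 @x10)) @(fun x10 => @Decidable.rec.{1} _ @(fun x11 => @Decidable (@Eq.{(max (ku1+1) (ku0+1))} _ ((@x6, @x7)) ((@x8, @x9)))) @(fun x11 => @Decidable.isFalse _ (@instDecidableEqProd._proof_2.{ku1, ku0} _ _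 @x6 @x7 @x8 @x9 @x11)) @(fun x11 => @Decidable.isTrue _ (@instDecidableEqProd._proof_1.{ku1, ku0} _ _ @x6 @x7 @x8 @x9 @x10 @x11)) (@x3 @x7 @x9)) (@x2 @x6 @x8)) @x5) @x4)
private theorem _root_.Cfsg.Agent.KO4074f71.e22.{ku0, ku1} : @instDecidableEqProd.{ku0, ku1} = @_root_.Cfsg.Agent.KO4074f71.k22.{ku0, ku1} := by delta _root_.Cfsg.Agent.KO4074f71.k22; rfl'
private noncomputable def _root_.Cfsg.Agent.KO4074f71.k23 : type_of% @Int.decEq := @(fun x0 x1 => @Int.rec.{1} @(fun x2 => @Decidable (@Eq.{1} _ @x2 @x1)) @(fun x2 => @Int.rec.{1} @(fun x3 => @Decidable (@Eq.{1} _ (@Int.ofNat @x2) @x3)) @(fun x3 => @Decidable.rec.{1} _ @(fun x4 => @Decidable (@Eq.{1} _ (@Int.ofNat @x2) (@Int.ofNat @x3))) @(fun x4 => @Decidable.isFalse _ (@Int.decEq._proof_2 @x2 @x3 @x4)) @(fun x4 => @Decidable.isTrue _ (@Int.decEq._proof_1 @x2 @x3 @x4)) (@Cfsg.Agent.KO4074f71.k19 @x2 @x3)) @(fun x3 => @Decidable.isFalse _ (@Int.decEq._proof_3 @x2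 @x3)) @x1) @(fun x2 => @Int.rec.{1} @(fun x3 => @Decidable (@Eq.{1} _ (@Int.negSucc @x2) @x3)) @(fun x3 => @Decidable.isFalse _ (@Int.decEq._proof_4 @x2 @x3)) @(fun x3 => @Decidable.rec.{1} _ @(fun x4 => @Decidable (@Eq.{1} _ (@Int.negSucc @x2) (@Int.negSucc @x3))) @(fun x4 => @Decidable.isFalse _ (@Int.decEq._proof_6 @x2 @x3 @x4)) @(fun x4 => @Decidable.isTrue _ (@Int.decEq._proof_5 @x2 @x3 @x4)) (@Cfsg.Agent.KO4074f71.k19 @x2 @x3)) @x1) @x0)
private theorem _root_.Cfsg.Agent.KO4074f71.e23 : @Int.decEq = @_root_.Cfsg.Agent.KO4074f71.k23 := by delta _root_.Cfsg.Agent.KO4074f71.k23; rewrite [← Cfsg.Agent.KO4074f71.e19]; rfl'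
private noncomputable def _root_.Cfsg.Agent.KO4074f71.k24 : type_of% @ZMod.decidableEq := @(fun x0 => @Nat.rec.{1} @(fun x1 => @DecidableEq.{1} (@ZMod @x1)) @Cfsg.Agent.KO4074f71.k23 @(fun x1 x2 => @Cfsg.Agent.KO4074f71.k20 (@Nat.add @x1 (nat_lit 1))) @x0)
private theorem _root_.Cfsg.Agent.KO4074f71.e24 : @ZMod.decidableEq = @_root_.Cfsg.Agent.KO4074f71.k24 := by delta _root_.Cfsg.Agent.KO4074f71.k24; rewrite [← Cfsg.Agent.KO4074f71.e20, ← Cfsg.Agent.KO4074f71.e23]; rfl'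

theorem cls_add : ∀ u v : W, (cls u).isSome = true → (cls v).isSome = true →
    (cls u = cls v ↔ (u + v = 0 ∨ (cls (u + v)).isSome = true)) := by (first | (refine of_decide_eq_true ?_; rewrite [Cfsg.Agent.KO4074f71.e0, Cfsg.Agent.KO4074f71.e11.{0}, Cfsg.Agent.KO4074f71.e12, Cfsg.Agent.KO4074f71.e14, Cfsg.Agent.KO4074f71.e15.{0}, Cfsg.Agent.KO4074f71.e16, Cfsg.Agent.KO4074f71.e17, Cfsg.Agent.KO4074f71.e18.{0}, Cfsg.Agent.KO4074f71.e20, Cfsg.Agent.KO4074f71.e21, Cfsg.Agent.KO4074f71.e22.{0, 0}, Cfsg.Agent.KO4074f71.e24]; decide +kernel) | decide +kernel)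

/-- the additive permutations preserving the 18 vectors -/
def GW : Subgroup (Equiv.Perm W) where
  carrier := {α | (∀ u v, α (u + v) = α u + α v) ∧ ∀ v, (cls (α v)).isSome = (cls v).isSome}
  one_mem' := ⟨fun _ _ => rfl, fun _ => rfl⟩
  mul_mem' := fun {α β} ha hb => by
    refine ⟨fun u v => ?_, fun v => ?_⟩
    · show α (β (u + v)) = α (β u) + α (β v)
      rw [hb.1, ha.1]
    · show (cls (α (β v))).isSome = _
      rw [ha.2, hb.2]
  inv_mem' := fun {α} ha => by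
    refine ⟨fun u v => ?_, fun v => ?_⟩
    · apply α.injective
      show α (α.symm (u + v)) = α (α.symm u + α.symm v)
      rw [ha.1, Equiv.apply_symm_apply, Equiv.apply_symm_apply, Equiv.apply_symm_apply]
    · have h1 := ha.2 (α.symm v)
      rw [Equiv.apply_symm_apply] at h1
      exact h1.symm

theorem add_GW {α : Equiv.Perm W} (h : α ∈ GW) (u v : W) : α (u + v) = α u + α v := h.1 u v

theorem zero_GW {α : Equiv.Perm W} (h : α ∈ GW) : α 0 = 0 := by
  have h1 := add_GW h 0 0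
  rw [add_zero] at h1
  exact left_eq_add.1 h1

theorem mem_GW {α : Equiv.Perm W} (h : α ∈ GW) (v : W) : (cls (α v)).isSome = (cls v).isSome := h.2 v

/-- the permutation of the points -/
def pf (α : Equiv.Perm W) (i : Fin 6) : Fin 6 := (cls (α (rep i))).getD 0

theorem cls_pf {α : Equiv.Perm W} (ha : α ∈ GW) (i : Fin 6) : cls (α (rep i)) = some (pf α i) := by
  have h1 : (cls (α (rep i))).isSome = true := by rw [mem_GW ha, cls_rep]; rfl
  obtain ⟨j, hj⟩ := Option.isSome_iff_exists.1 h1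
  rw [pf, hj]; rfl

theorem cls_apply {α : Equiv.Perm W} (ha : α ∈ GW) {v : W} {i : Fin 6} (hv : cls v = some i) :
    cls (α v) = some (pf α i) := by
  rw [← cls_pf ha]
  have h1 : (cls (α v)).isSome = true := by rw [mem_GW ha, hv]; rfl
  have h2 : (cls (α (rep i))).isSome = true := by rw [mem_GW ha, cls_rep]; rfl
  rw [cls_add _ _ h1 h2, ← add_GW ha]
  have h3 := (cls_add v (rep i) (by rw [hv]; rfl) (by rw [cls_rep]; rfl)).1 (by rw [hv, cls_rep])
  rcases h3 with h3 | h3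
  · left; rw [h3, zero_GW ha]
  · right; rw [mem_GW ha]; exact h3

theorem pf_mul {α β : Equiv.Perm W} (ha : α ∈ GW) (hb : β ∈ GW) (i : Fin 6) : pf (α * β) i = pf α (pf β i) := by
  have h1 := cls_apply ha (cls_pf hb i)
  have h2 := cls_pf (GW.mul_mem ha hb) i
  have h3 : cls ((α * β) (rep i)) = cls (α (β (rep i))) := rfl
  rw [h3, h1] at h2
  exact (Option.some.inj h2).symm

theorem pf_one (i : Fin 6) : pf 1 i = i := by
  have h1 := cls_pf GW.one_mem i
  have h2 : cls ((1 : Equiv.Perm W) (rep i)) = some i := cls_rep i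
  rw [h2] at h1
  exact (Option.some.inj h1).symm

/-- the action on the six points -/
def pi : GW →* Equiv.Perm (Fin 6) where
  toFun α :=
    { toFun := pf α
      invFun := pf (α : Equiv.Perm W)⁻¹
      left_inv := fun i => by rw [← pf_mul (inv_mem α.2) α.2, inv_mul_cancel, pf_one]
      right_inv := fun i => by rw [← pf_mul α.2 (inv_mem α.2), mul_inv_cancel, pf_one] }
  map_one' := by
    ext i
    exact congrArg Fin.val (pf_one i)
  map_mul' := fun α β => by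
    ext i
    exact congrArg Fin.val (pf_mul α.2 β.2 i)

theorem pi_apply (α : GW) (i : Fin 6) : pi α i = pf α i := rfl

theorem pi_eq {α : GW} {σ : Equiv.Perm (Fin 6)} (h : ∀ i, cls ((α : Equiv.Perm W) (rep i)) = some (σ i)) : pi α = σ := by
  ext i
  rw [pi_apply]
  have h1 := cls_pf α.2 i
  rw [h] at h1
  exact congrArg Fin.val (Option.some.inj h1).symm

/-- an additive subset containing the six basis vectors -/
theorem induct {P : W → Prop} (hadd : ∀ u v, P u → P v → P (u + v)) (h0 : P 0)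
    (h1 : P (e1, 0, 0)) (h2 : P (ew, 0, 0)) (h3 : P (0, e1, 0)) (h4 : P (0, ew, 0)) (h5 : P (0, 0, e1))
    (h6 : P (0, 0, ew)) (v : W) : P v := by
  let f : ZMod 2 → W → W := fun c u => if c = 1 then u else 0
  have hf : ∀ c u, P u → P (f c u) := by
    intro c u hu
    show P (if c = 1 then u else 0)
    split
    · exact hu
    · exact h0
  have key : v = f v.1.1 (e1, 0, 0) + f v.1.2 (ew, 0, 0) + f v.2.1.1 (0, e1, 0) + f v.2.1.2 (0, ew, 0) +
      f v.2.2.1 (0, 0, e1) + f v.2.2.2 (0, 0, ew) := by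
    revert v; decide +kernel
  rw [key]
  exact hadd _ _ (hadd _ _ (hadd _ _ (hadd _ _ (hadd _ _ (hf _ _ h1) (hf _ _ h2)) (hf _ _ h3)) (hf _ _ h4)) (hf _ _ h5))
    (hf _ _ h6)

theorem aut_ext {α β : Equiv.Perm W} (ha : α ∈ GW) (hb : β ∈ GW) (h1 : α (e1, 0, 0) = β (e1, 0, 0)) (h2 : α (ew, 0, 0) = β (ew, 0, 0))
    (h3 : α (0, e1, 0) = β (0, e1, 0)) (h4 : α (0, ew, 0) = β (0, ew, 0)) (h5 : α (0, 0, e1) = β (0, 0, e1))
    (h6 : α (0, 0, ew) = β (0, 0, ew)) : α = β := by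
  apply Equiv.ext
  apply induct (P := fun v => α v = β v)
  · intro u v hu hv
    rw [add_GW ha, add_GW hb, hu, hv]
  · rw [zero_GW ha, zero_GW hb]
  all_goals assumption

def b3 (v1 v2 : W) : Bool := !(cls v1 == some 1) || (!(cls v2 == some 2) || (!(cls (rep 0 + v1 + v2) == some 3) ||
  (decide (v1 = (0, e1, 0)) && decide (v2 = (0, 0, e1)))))
def b4 (v1 v2 : W) : Bool := !(cls v1 == some 1) || (!(cls v2 == some 2) || (!(cls (rep 0 + v1 + v2) == some 4) ||
  (decide (v1 = (0, ew, 0)) && decide (v2 = (0, 0, eb)))))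
def b0 (v : W) : Bool := !(cls v == some 0) || (!(cls (v + (0, ew, 0) + (0, 0, ew)) == some 3) || decide (v = (ew, 0, 0)))

theorem b3_chk : ∀ v1 v2 : W, b3 v1 v2 = true := by (first | (refine of_decide_eq_true ?_; rewrite [Cfsg.Agent.KO4074f71.e0, Cfsg.Agent.KO4074f71.e11.{0}, Cfsg.Agent.KO4074f71.e14]; decide +kernel) | decide +kernel)
theorem b4_chk : ∀ v1 v2 : W, b4 v1 v2 = true := by (first | (refine of_decide_eq_true ?_; rewrite [Cfsg.Agent.KO4074f71.e0, Cfsg.Agent.KO4074f71.e11.{0}, Cfsg.Agent.KO4074f71.e14]; decide +kernel) | decide +kernel)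
theorem b0_chk : ∀ v : W, b0 v = true := by decide +kernel

theorem chk3 (v1 v2 : W) (h1 : cls v1 = some 1) (h2 : cls v2 = some 2) (h3 : cls (rep 0 + v1 + v2) = some 3) :
    v1 = (0, e1, 0) ∧ v2 = (0, 0, e1) := by
  have h := b3_chk v1 v2
  rw [b3, h1, h2, h3] at h
  simpa using h

theorem chk4 (v1 v2 : W) (h1 : cls v1 = some 1) (h2 : cls v2 = some 2) (h3 : cls (rep 0 + v1 + v2) = some 4) :
    v1 = (0, ew, 0) ∧ v2 = (0, 0, eb) := by
  have h := b4_chk v1 v2
  rw [b4, h1, h2, h3] at h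
  simpa using h

theorem chk0 (v : W) (h1 : cls v = some 0) (h3 : cls (v + (0, ew, 0) + (0, 0, ew)) = some 3) : v = (ew, 0, 0) := by
  have h := b0_chk v
  rw [b0, h1, h3] at h
  simpa using h

/-- an element of the kernel fixing a vector of the first point is trivial -/
theorem ker_one {α : Equiv.Perm W} (ha : α ∈ GW) (hk : ∀ i, pf α i = i) (h0 : α (rep 0) = rep 0) : α = 1 := by
  have c : ∀ {v : W} {i : Fin 6}, cls v = some i → cls (α v) = some i := fun {v i} hv => by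
    rw [cls_apply ha hv, hk]
  have s3 : rep 3 = rep 0 + (0, e1, 0) + (0, 0, e1) := by decide +kernel
  have s4 : rep 4 = rep 0 + (0, ew, 0) + (0, 0, eb) := by decide +kernel
  have h3 := c (cls_rep 3)
  rw [s3, add_GW ha, add_GW ha, h0] at h3
  obtain ⟨f1, f2⟩ := chk3 _ _ (c (by decide +kernel)) (c (by decide +kernel)) h3
  have h4 := c (cls_rep 4)
  rw [s4, add_GW ha, add_GW ha, h0] at h4
  obtain ⟨f3, f4⟩ := chk4 _ _ (c (by decide +kernel)) (c (by decide +kernel)) h4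
  have f5 : α (0, 0, ew) = (0, 0, ew) := by
    have e : ((0, 0, ew) : W) = (0, 0, e1) + (0, 0, eb) := by decide +kernel
    rw [e, add_GW ha, f2, f4]
  have h5 : cls (α ((ew, 0, 0) + (0, ew, 0) + (0, 0, ew))) = some 3 := c (by decide +kernel)
  rw [add_GW ha, add_GW ha, f3, f5] at h5
  have f6 := chk0 _ (c (by decide +kernel)) h5
  exact aut_ext ha GW.one_mem h0 f6 f1 f3 f2 f5

/-- the scalar `ω` -/
def sc : Equiv.Perm W where
  toFun v := (om v.1, om v.2.1, om v.2.2)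
  invFun v := (om (om v.1), om (om v.2.1), om (om v.2.2))
  left_inv := by decide +kernel
  right_inv := by decide +kernel

/-- `diag(1, ω, ω²)` -/
def aa : Equiv.Perm W where
  toFun v := (v.1, om v.2.1, om (om v.2.2))
  invFun v := (v.1, om (om v.2.1), om v.2.2)
  left_inv := by decide +kernel
  right_inv := by decide +kernel

/-- the cyclic permutation of the coordinates -/
def bb : Equiv.Perm W where
  toFun v := (v.2.2, v.1, v.2.1)
  invFun v := (v.2.1, v.2.2, v.1)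
  left_inv := by decide +kernel
  right_inv := by decide +kernel

theorem sc_apply (v : W) : sc v = (om v.1, om v.2.1, om v.2.2) := rfl
theorem aa_apply (v : W) : aa v = (v.1, om v.2.1, om (om v.2.2)) := rfl
theorem bb_apply (v : W) : bb v = (v.2.2, v.1, v.2.1) := rfl

private theorem om_add' : ∀ a b : F, om (a + b) = om a + om b := by decide +kernel

theorem sc_mem : sc ∈ GW :=
  ⟨fun u v => Prod.ext (om_add' u.1 v.1) (Prod.ext (om_add' u.2.1 v.2.1) (om_add' u.2.2 v.2.2)),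
    by simp only [sc_apply]; decide +kernel⟩

theorem aa_mem : aa ∈ GW :=
  ⟨fun u v => Prod.ext rfl (Prod.ext (om_add' u.2.1 v.2.1) ((congrArg om (om_add' u.2.2 v.2.2)).trans (om_add' _ _))),
    by simp only [aa_apply]; decide +kernel⟩

theorem bb_mem : bb ∈ GW :=
  ⟨fun _ _ => rfl, by simp only [bb_apply]; decide +kernel⟩

theorem pi_sc : pi ⟨sc, sc_mem⟩ = 1 := by
  apply pi_eq
  simp only [sc_apply]
  decide +kernel

theorem pi_aa : pi ⟨aa, aa_mem⟩ = Equiv.swap 3 5 * Equiv.swap 3 4 := by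
  apply pi_eq
  simp only [aa_apply]
  decide +kernel

theorem pi_bb : pi ⟨bb, bb_mem⟩ = Equiv.swap 0 2 * Equiv.swap 0 1 := by
  apply pi_eq
  simp only [bb_apply]
  decide +kernel

theorem sc_cube : sc ^ 3 = 1 := by
  apply Equiv.ext
  intro v
  show sc (sc (sc v)) = v
  simp only [sc_apply]
  revert v; decide +kernel

theorem sc_ne : sc ≠ 1 := by
  intro h
  have h1 := congrArg (fun α : Equiv.Perm W => α (e1, 0, 0)) h
  have h2 : ((om e1, om 0, om 0) : W) = (e1, 0, 0) := h1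
  revert h2; decide +kernel

def c0 (v : W) : Bool := !(cls v == some 0) || (decide (v = rep 0) || (decide (v = sc (rep 0)) || decide (v = sc (sc (rep 0)))))

theorem c0_chk : ∀ v : W, c0 v = true := by decide +kernel

theorem cls0_cases (v : W) (h1 : cls v = some 0) : v = rep 0 ∨ v = sc (rep 0) ∨ v = sc (sc (rep 0)) := by
  have h := c0_chk v
  rw [c0, h1] at h
  simpa using h

theorem ker_cases {α : Equiv.Perm W} (ha : α ∈ GW) (hk : ∀ i, pf α i = i) : α = 1 ∨ α = sc ∨ α = sc * sc := by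
  have hsk : ∀ i, pf sc i = i := fun i => by
    have := congrArg (fun σ : Equiv.Perm (Fin 6) => σ i) pi_sc
    exact this
  have h0 : cls (α (rep 0)) = some 0 := by rw [cls_pf ha, hk]
  have key : ∀ {β : Equiv.Perm W} (_ : β ∈ GW) (_ : ∀ i, pf β i = i), α (rep 0) = β (rep 0) → α = β := by
    intro β hb hbk h
    have h1 : β⁻¹ * α ∈ GW := GW.mul_mem (GW.inv_mem hb) ha
    have h2 : ∀ i, pf (β⁻¹ * α) i = i := by
      intro i
      rw [pf_mul (GW.inv_mem hb) ha, hk]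
      have h3 := pf_mul (GW.inv_mem hb) hb i
      rw [inv_mul_cancel, pf_one, hbk] at h3
      exact h3.symm
    have h3 : (β⁻¹ * α) (rep 0) = rep 0 := by
      show β⁻¹ (α (rep 0)) = rep 0
      rw [h]
      exact β.symm_apply_apply (rep 0)
    have h4 := ker_one h1 h2 h3
    rw [inv_mul_eq_one] at h4
    exact h4.symm
  rcases cls0_cases _ h0 with h | h | h
  · left; exact key GW.one_mem pf_one h
  · right; left; exact key sc_mem hsk h
  · right; right
    refine key (GW.mul_mem sc_mem sc_mem) (fun i => ?_) h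
    rw [pf_mul sc_mem sc_mem, hsk, hsk]

theorem mem_ker {α : GW} : α ∈ pi.ker ↔ (α : Equiv.Perm W) = 1 ∨ (α : Equiv.Perm W) = sc ∨ (α : Equiv.Perm W) = sc * sc := by
  constructor
  · intro h
    apply ker_cases α.2
    intro i
    have h1 := congrArg (fun σ : Equiv.Perm (Fin 6) => σ i) (MonoidHom.mem_ker.1 h)
    exact h1
  · have hs : (⟨sc, sc_mem⟩ : GW) ∈ pi.ker := MonoidHom.mem_ker.2 pi_sc
    rintro (h | h | h)
    · have : α = 1 := Subtype.ext h
      rw [this]; exact one_mem _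
    · have : α = ⟨sc, sc_mem⟩ := Subtype.ext h
      rw [this]; exact hs
    · have : α = ⟨sc, sc_mem⟩ * ⟨sc, sc_mem⟩ := Subtype.ext h
      rw [this]; exact mul_mem hs hs

theorem card_ker : Nat.card pi.ker = 3 := by
  have h3 : Fact (Nat.Prime 3) := ⟨Nat.prime_three⟩
  have h1 : pi.ker = Subgroup.zpowers (⟨sc, sc_mem⟩ : GW) := by
    ext α
    rw [mem_ker, Subgroup.mem_zpowers_iff]
    constructor
    · rintro (h | h | h)
      · exact ⟨0, by rw [zpow_zero]; exact Subtype.ext h.symm⟩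
      · exact ⟨1, by rw [zpow_one]; exact Subtype.ext h.symm⟩
      · exact ⟨2, by rw [zpow_two]; exact Subtype.ext h.symm⟩
    · rintro ⟨k, rfl⟩
      have h2 : ((⟨sc, sc_mem⟩ : GW) ^ k) ∈ pi.ker := zpow_mem (MonoidHom.mem_ker.2 pi_sc) k
      exact mem_ker.1 h2
  rw [h1, Nat.card_zpowers]
  apply orderOf_eq_prime
  · exact Subtype.ext sc_cube
  · intro h
    exact sc_ne (congrArg Subtype.val h)

theorem aa_sc : aa * sc = sc * aa := by
  apply Equiv.ext
  intro v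
  show aa (sc v) = sc (aa v)
  simp only [sc_apply, aa_apply]

theorem bb_sc : bb * sc = sc * bb := by
  apply Equiv.ext
  intro v
  show bb (sc v) = sc (bb v)
  simp only [sc_apply, bb_apply]

theorem hat (hs : Function.Surjective pi) : Hat pi ⟨aa, aa_mem⟩ ⟨bb, bb_mem⟩ where
  surj := hs
  ker := card_ker
  ea := by
    rw [pi_aa, Equiv.Perm.mem_alternatingGroup]; decide +kernel
  eb := by
    rw [pi_bb, Equiv.Perm.mem_alternatingGroup]; decide +kernel
  ca := by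
    intro c hc
    apply Subtype.ext
    show aa * (c : Equiv.Perm W) = c * aa
    rcases mem_ker.1 hc with h | h | h <;> rw [h]
    · rw [mul_one, one_mul]
    · exact aa_sc
    · rw [← mul_assoc, aa_sc, mul_assoc, aa_sc, mul_assoc]
  cb := by
    intro c hc
    apply Subtype.ext
    show bb * (c : Equiv.Perm W) = c * bb
    rcases mem_ker.1 hc with h | h | h <;> rw [h]
    · rw [mul_one, one_mul]
    · exact bb_sc
    · rw [← mul_assoc, bb_sc, mul_assoc, bb_sc, mul_assoc]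
  comm := by
    rw [pi_aa, pi_bb]; decide +kernel
  ne := by
    intro h
    have h1 := congrArg (fun α : GW => (α : Equiv.Perm W) (e1, 0, 0)) h
    have h2 : aa (bb (e1, 0, 0)) = bb (aa (e1, 0, 0)) := h1
    simp only [aa_apply, bb_apply] at h2
    revert h2; decide +kernel

/-! ### Subgroups of order 64 -/

section

variable {G : Type*} [Group G]

/-- coordinates on `V`; the 18 vectors are the ones not conjugate to `z`; `V` is self-centralizing; two elements of `N(V)`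
induce a 6-cycle and a transposition -/
structure Frame (z : G) (V : Subgroup G) (e : W → G) (σ : Equiv.Perm (Fin 6)) (g h : G) : Prop where
  add : ∀ u v, e (u + v) = e u * e v
  inj : Function.Injective e
  mem : ∀ g, g ∈ V ↔ ∃ w, e w = g
  cls : ∀ w, w ≠ 0 → ((cls w).isSome = true ↔ ¬ IsConj z (e w))
  cen : ∀ g, (∀ v ∈ V, g * v = v * g) → g ∈ V
  cyc : σ.IsCycle
  supp : σ.support = Finset.univ
  g_mem : g ∈ normalizer (V : Set G)
  h_mem : h ∈ normalizer (V : Set G)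
  g_act : ∀ i, ∃ w, HexW.cls w = some (σ i) ∧ g * e (rep i) * g⁻¹ = e w
  h_act : ∀ i, ∃ w, HexW.cls w = some (Equiv.swap 0 (σ 0) i) ∧ h * e (rep i) * h⁻¹ = e w

variable {z : G} {V : Subgroup G} {e : W → G} {σ : Equiv.Perm (Fin 6)} {g h : G} (fr : Frame z V e σ g h)
include fr

theorem Frame.e_mem (w : W) : e w ∈ V := (fr.mem _).2 ⟨w, rfl⟩

theorem Frame.zero : e 0 = 1 := by
  have h1 := fr.add 0 0
  rw [add_zero] at h1
  exact left_eq_mul.1 h1

omit fr in
/-- the coordinates -/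
noncomputable def dd (e : W → G) (x : G) : W := Function.invFun e x

theorem Frame.e_dd {x : G} (hx : x ∈ V) : e (dd e x) = x := by
  obtain ⟨w, hw⟩ := (fr.mem x).1 hx
  exact Function.invFun_eq ⟨w, hw⟩

theorem Frame.conj_mem {x : G} (hx : x ∈ normalizer (V : Set G)) (w : W) : x * e w * x⁻¹ ∈ V :=
  (mem_normalizer_iff.1 hx _).1 (fr.e_mem w)

/-- the action of `N(V)` in coordinates -/
noncomputable def Frame.act {x : G} (hx : x ∈ normalizer (V : Set G)) : Equiv.Perm W where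
  toFun w := dd e (x * e w * x⁻¹)
  invFun w := dd e (x⁻¹ * e w * x)
  left_inv w := by
    apply fr.inj
    have h1 : x⁻¹ * (x * e w * x⁻¹) * x = e w := by group
    show e (dd e (x⁻¹ * e (dd e (x * e w * x⁻¹)) * x)) = e w
    rw [fr.e_dd (fr.conj_mem hx w), h1, fr.e_dd (fr.e_mem w)]
  right_inv w := by
    apply fr.inj
    have h0 := fr.conj_mem (inv_mem hx) w
    rw [inv_inv] at h0
    have h1 : x * (x⁻¹ * e w * x) * x⁻¹ = e w := by group
    show e (dd e (x * e (dd e (x⁻¹ * e w * x)) * x⁻¹)) = e w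
    rw [fr.e_dd h0, h1, fr.e_dd (fr.e_mem w)]

theorem Frame.e_act {x : G} (hx : x ∈ normalizer (V : Set G)) (w : W) : e (fr.act hx w) = x * e w * x⁻¹ :=
  fr.e_dd (fr.conj_mem hx w)

theorem Frame.act_add {x : G} (hx : x ∈ normalizer (V : Set G)) (u v : W) :
    fr.act hx (u + v) = fr.act hx u + fr.act hx v := by
  apply fr.inj
  rw [fr.add, fr.e_act, fr.e_act, fr.e_act, fr.add]
  group

theorem Frame.act_mem {x : G} (hx : x ∈ normalizer (V : Set G)) : fr.act hx ∈ GW := by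
  refine ⟨fr.act_add hx, ?_⟩
  have h0 : fr.act hx 0 = 0 := by
    have h1 := fr.act_add hx 0 0
    rw [add_zero] at h1
    exact left_eq_add.1 h1
  intro v
  by_cases hv : v = 0
  · rw [hv, h0]
  · have h1 : fr.act hx v ≠ 0 := fun h2 => hv ((fr.act hx).injective (h2.trans h0.symm))
    have h3 := fr.cls _ hv
    have h4 := fr.cls _ h1
    have h5 : IsConj z (e (fr.act hx v)) ↔ IsConj z (e v) := by
      have h6 : IsConj (e v) (e (fr.act hx v)) := isConj_iff.2 ⟨x, (fr.e_act hx v).symm⟩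
      exact ⟨fun h7 => h7.trans h6.symm, fun h7 => h7.trans h6⟩
    rw [h5, ← h3] at h4
    rw [Bool.eq_iff_iff]
    exact h4

/-- the homomorphism onto `3·S₆` -/
noncomputable def Frame.psi : normalizer (V : Set G) →* GW where
  toFun x := ⟨fr.act x.2, fr.act_mem x.2⟩
  map_one' := by
    apply Subtype.ext
    apply Equiv.ext
    intro w
    apply fr.inj
    refine (fr.e_act (1 : normalizer (V : Set G)).2 w).trans ?_
    show (1 : G) * e w * (1 : G)⁻¹ = e w
    group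
  map_mul' x y := by
    apply Subtype.ext
    apply Equiv.ext
    intro w
    apply fr.inj
    refine (fr.e_act (x * y).2 w).trans ?_
    show (x * y : G) * e w * (x * y : G)⁻¹ = e (fr.act x.2 (fr.act y.2 w))
    rw [fr.e_act, fr.e_act]
    group

theorem Frame.pi_psi {x : G} (hx : x ∈ normalizer (V : Set G)) {τ : Equiv.Perm (Fin 6)}
    (ha : ∀ i, ∃ w, HexW.cls w = some (τ i) ∧ x * e (rep i) * x⁻¹ = e w) : pi (fr.psi ⟨x, hx⟩) = τ := by
  apply pi_eq
  intro i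
  obtain ⟨w, hw, he⟩ := ha i
  have h1 : fr.act hx (rep i) = w := by
    apply fr.inj
    rw [fr.e_act, he]
  show HexW.cls (fr.act hx (rep i)) = _
  rw [h1, hw]

theorem Frame.range_top : (fr.psi.range).map pi = ⊤ := by
  rw [eq_top_iff, ← Equiv.Perm.closure_cycle_adjacent_swap fr.cyc fr.supp 0, closure_le]
  rintro τ (rfl | rfl)
  · exact ⟨fr.psi ⟨g, fr.g_mem⟩, ⟨_, rfl⟩, fr.pi_psi fr.g_mem fr.g_act⟩
  · exact ⟨fr.psi ⟨h, fr.h_mem⟩, ⟨_, rfl⟩, fr.pi_psi fr.h_mem fr.h_act⟩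

theorem Frame.pi_surj : Function.Surjective pi := by
  rw [← MonoidHom.range_eq_top, eq_top_iff, ← fr.range_top]
  rintro _ ⟨x, -, rfl⟩
  exact ⟨x, rfl⟩

theorem Frame.psi_surj : Function.Surjective fr.psi := by
  rw [← MonoidHom.range_eq_top]
  exact (hat fr.pi_surj).eq_top fr.range_top

theorem Frame.mem_ker {x : normalizer (V : Set G)} : x ∈ fr.psi.ker ↔ (x : G) ∈ V := by
  rw [MonoidHom.mem_ker]
  constructor
  · intro hx
    apply fr.cen
    intro v hv
    obtain ⟨w, rfl⟩ := (fr.mem v).1 hv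
    have h1 : fr.act x.2 w = w := by
      have h2 := congrArg (fun α : GW => (α : Equiv.Perm W) w) hx
      exact h2
    have h3 := fr.e_act x.2 w
    rw [h1] at h3
    exact (eq_mul_inv_iff_mul_eq.1 h3).symm
  · intro hx
    obtain ⟨u, hu⟩ := (fr.mem _).1 hx
    apply Subtype.ext
    apply Equiv.ext
    intro w
    apply fr.inj
    show e (fr.act x.2 w) = e w
    rw [fr.e_act, ← hu, ← fr.add, add_comm, fr.add]
    group

theorem Frame.isPGroup_ker : IsPGroup 2 fr.psi.ker := by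
  intro x
  refine ⟨1, ?_⟩
  apply Subtype.ext
  apply Subtype.ext
  obtain ⟨w, hw⟩ := (fr.mem _).1 (fr.mem_ker.1 x.2)
  show ((x : normalizer (V : Set G)) : G) ^ (2 ^ 1) = 1
  have h1 : w + w = 0 := (by decide +kernel : ∀ w : W, w + w = 0) w
  rw [← hw, pow_one, pow_two, ← fr.add, h1, fr.zero]

/-- **The members of `ℒ(G, T)` in `N(V)`.** -/
theorem Frame.row [Finite G] (T : Sylow 2 G) {L : Subgroup G} (hL : L ∈ calL (T : Subgroup G))
    (hTM : (T : Subgroup G) ≤ normalizer (V : Set G)) (hLM : L ≤ normalizer (V : Set G)) :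
    L ⊔ T ≤ normalizer (L : Set G) ∧ IsHatA6 (L ⧸ Cfsg.pCore 2 L) ∧ L.subgroupOf (L ⊔ T) = perfectCore ↥(L ⊔ T) :=
  (hat fr.pi_surj).row T hL hTM hLM fr.psi fr.psi_surj fr.isPGroup_ker

end

end Cfsg.Agent.H6.HexW
end

-- part: H6/He/Words
section
/-!
# The configuration of the presented Held group: `Ctx z ι` and the general construction of a `Frame` (helper6)

* `nm`: `x01 x24` is not conjugate to `z` (its centralizer contains an element of order 5);
* `ctx : Ctx z ι`;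
* `mk`: a `Frame` from words in the sixteen letters, all relations being checked on the four base points.
-/

set_option autoImplicit false

namespace Cfsg.Agent.H6.HeWords

open Subgroup Cfsg Cfsg.Agent.SporadicRecognition.HeldModel Cfsg.Agent.KFacts.TwoSix.Base
  Cfsg.Agent.KFacts.TwoSix.Facts Cfsg.Agent.KFacts.TwoSix.U Cfsg.Agent.H6.HeElt Cfsg.Agent.H6.HeOver
  Cfsg.Agent.KFacts.He.InvolAut Cfsg.Agent.KFacts.He.Words Cfsg.Agent.KFacts.He.Hyp Cfsg.Agent.QTUnique.He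
  Cfsg.Agent.SporadicRecognition.CosetCert Cfsg.Agent.Held.Letters Cfsg.Agent.KFacts.TwoSix.OfSt
  Cfsg.Agent.H6.HexW
open Cfsg.Agent.KFacts.He.Bound (z)

/-! ### `z` and `v` are not conjugate -/

section

open Cfsg.Agent.KFacts.He.TwoACent Cfsg.Agent.KFacts.He.Lv Cfsg.Agent.SporadicB.HePerm Cfsg.Spor.He
  Cfsg.Agent.FixBN.HeStab

theorem five_dvd : 5 ∣ Nat.card (Subgroup.centralizer ({gn .a} : Set Cfsg.Spor.He)) := by
  have h5 : Fact (Nat.Prime 5) := ⟨by norm_num⟩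
  have hL : wd [.c, .d, .e] ∈ KFacts.He.TwoACent.L := wd_mem_L (by decide)
  have hpow : wd [.c, .d, .e] ^ 5 = 1 := by
    have h := eq_of_chkB (v := ([.c, .d, .e] : List Cfsg.Spor.He.Gen) ++ (([.c, .d, .e] : List Cfsg.Spor.He.Gen) ++ (([.c, .d, .e] : List Cfsg.Spor.He.Gen) ++ (([.c, .d, .e] : List Cfsg.Spor.He.Gen) ++ ([.c, .d, .e] : List Cfsg.Spor.He.Gen))))) (w := [])
      (by decide +kernel)
    rw [wd_append, wd_append, wd_append, wd_append, wd_nil] at h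
    rw [← h]; simp only [pow_succ, pow_zero, one_mul, mul_assoc]
  have hne : wd [.c, .d, .e] ≠ 1 := by
    rw [← wd_nil]; exact ne_of_act 8 (by decide +kernel)
  have ho : orderOf (wd [.c, .d, .e]) = 5 := orderOf_eq_prime hpow hne
  have hm : wd [.c, .d, .e] ∈ Subgroup.centralizer ({gn .a} : Set Cfsg.Spor.He) := by
    rw [mem_centralizer_singleton_iff]; exact L_comm_a hL
  rw [← ho, ← Subgroup.orderOf_mk _ hm]
  exact orderOf_dvd_natCard _

end

/-- `x01 x24` is not conjugate to `z` -/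
theorem nm_v : ¬ IsConj z KFacts.He.Classes.v := by
  intro h
  have h1 : IsConj z (PresentedGroup.of Cfsg.Spor.He.Gen.a : Cfsg.Spor.He) :=
    h.trans (isConj_iff.2 ⟨_, KFacts.He.Classes.v_a⟩)
  obtain ⟨g, hg⟩ := isConj_iff.1 h1
  have h2 : Nat.card (Subgroup.centralizer ({z} : Set Cfsg.Spor.He)) =
      Nat.card (Subgroup.centralizer ({(PresentedGroup.of Cfsg.Spor.He.Gen.a : Cfsg.Spor.He)} : Set Cfsg.Spor.He)) := by
    have h3 : (Subgroup.centralizer ({z} : Set Cfsg.Spor.He)).map (MulAut.conj g).toMonoidHom =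
        Subgroup.centralizer ({(PresentedGroup.of Cfsg.Spor.He.Gen.a : Cfsg.Spor.He)} : Set Cfsg.Spor.He) := by
      ext y
      rw [mem_centralizer_singleton_iff, ← hg]
      constructor
      · rintro ⟨x, hx, rfl⟩
        rw [SetLike.mem_coe, mem_centralizer_singleton_iff] at hx
        show g * x * g⁻¹ * (g * z * g⁻¹) = g * z * g⁻¹ * (g * x * g⁻¹)
        calc g * x * g⁻¹ * (g * z * g⁻¹) = g * (x * z) * g⁻¹ := by group
          _ = g * (z * x) * g⁻¹ := by rw [hx]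
          _ = _ := by group
      · intro hy
        refine ⟨g⁻¹ * y * g, ?_, ?_⟩
        · rw [SetLike.mem_coe, mem_centralizer_singleton_iff]
          calc g⁻¹ * y * g * z = g⁻¹ * (y * (g * z * g⁻¹)) * g := by group
            _ = g⁻¹ * (g * z * g⁻¹ * y) * g := by rw [hy]
            _ = _ := by group
        · show g * (g⁻¹ * y * g) * g⁻¹ = y
          group
    rw [← h3, Subgroup.card_map_of_injective (MulAut.conj g).injective]
  have h3 := KFacts.He.Cent.card_cent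
  have h4 : 5 ∣ Nat.card (Subgroup.centralizer ({z} : Set Cfsg.Spor.He)) := by
    rw [h2]; exact five_dvd
  rw [h3] at h4
  omega

/-! ### Words -/

theorem E_gx {n : ℕ} (hn : n < 12) : E [n] = iota (gx xC n) := by
  rw [iota_xC n hn]
  show ev (gy xr y1 y2) [n] = _
  rw [ev_one, gy_of_lt _ _ _ hn]

theorem E_mem (A : Subgroup L5) (w : List ℕ) (h : ∀ n ∈ w, n < 12 ∧ ((gx xC n : CC) : L5) ∈ A) : E w ∈ img iota A := by
  induction w with
  | nil => rw [E_nil]; exact one_mem _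
  | cons a w ih =>
    rw [E_cons]
    refine mul_mem ?_ (ih fun n hn => h n (List.mem_cons_of_mem _ hn))
    rw [E_gx (h a List.mem_cons_self).1]
    exact mem_img.2 ⟨_, (h a List.mem_cons_self).2, rfl⟩

theorem z_eq : z = E [3] := (ev_one _ _).symm

theorem v_eq : KFacts.He.Classes.v = E [0, 8] := rfl

theorem c0 : ((gx xC 0 : CC) : L5) = x 0 1 := congrArg Subtype.val (xC_eq (i := 0) (j := 1) (by decide) (by decide) (by decide))
theorem c1 : ((gx xC 1 : CC) : L5) = x 0 2 := congrArg Subtype.val (xC_eq (i := 0) (j := 2) (by decide) (by decide) (by decide))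
theorem c2 : ((gx xC 2 : CC) : L5) = x 0 3 := congrArg Subtype.val (xC_eq (i := 0) (j := 3) (by decide) (by decide) (by decide))
theorem c3 : ((gx xC 3 : CC) : L5) = x 0 4 := congrArg Subtype.val (xC_eq (i := 0) (j := 4) (by decide) (by decide) (by decide))
theorem c4 : ((gx xC 4 : CC) : L5) = x 1 2 := congrArg Subtype.val (xC_eq (i := 1) (j := 2) (by decide) (by decide) (by decide))
theorem c5 : ((gx xC 5 : CC) : L5) = x 1 3 := congrArg Subtype.val (xC_eq (i := 1) (j := 3) (by decide) (by decide) (by decide))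
theorem c6 : ((gx xC 6 : CC) : L5) = x 1 4 := congrArg Subtype.val (xC_eq (i := 1) (j := 4) (by decide) (by decide) (by decide))
theorem c7 : ((gx xC 7 : CC) : L5) = x 2 3 := congrArg Subtype.val (xC_eq (i := 2) (j := 3) (by decide) (by decide) (by decide))
theorem c8 : ((gx xC 8 : CC) : L5) = x 2 4 := congrArg Subtype.val (xC_eq (i := 2) (j := 4) (by decide) (by decide) (by decide))
theorem c9 : ((gx xC 9 : CC) : L5) = x 3 4 := congrArg Subtype.val (xC_eq (i := 3) (j := 4) (by decide) (by decide) (by decide))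

theorem E_three {k m n : ℕ} (hk : k < 12) (hm : m < 12) (hn : n < 12) :
    E [k, m, n] = iota (gx xC k * (gx xC m * gx xC n)) := by
  rw [E_cons, E_gx hk, E_cons, E_gx hm, E_gx hn, map_mul, map_mul]

theorem y1_ex : ∃ y : Cfsg.Spor.He, y * z * y⁻¹ ∈ img iota R1 ∧ y ∉ normalizer (img iota R1 : Set Cfsg.Spor.He) := by
  refine ⟨E [13], ?_, ?_⟩
  · have h1 : E [13] * z * (E [13])⁻¹ = E [2, 3] := by
      rw [mul_inv_eq_iff_eq_mul, z_eq, ← E_append, ← E_append]
      exact E_eq (by decide +kernel)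
    rw [h1]
    apply E_mem
    intro n hn
    simp only [List.mem_cons, List.not_mem_nil, or_false] at hn
    rcases hn with rfl | rfl
    · refine ⟨by norm_num, ?_⟩
      rw [c2, mem_R1_iff, cdx]; decide +kernel
    · refine ⟨by norm_num, ?_⟩
      rw [c3, mem_R1_iff, cdx]; decide +kernel
  · intro h
    have h1 : E [13] * E [0] * (E [13])⁻¹ = E [0, 2, 7] := by
      rw [mul_inv_eq_iff_eq_mul, ← E_append, ← E_append]
      exact E_eq (by decide +kernel)
    have h2 : E [0] ∈ img iota R1 := by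
      apply E_mem
      intro n hn
      rw [List.mem_singleton] at hn
      subst hn
      refine ⟨by norm_num, ?_⟩
      rw [c0, mem_R1_iff, cdx]; decide +kernel
    have h3 := (mem_normalizer_iff.1 h _).1 h2
    rw [h1, E_three (by norm_num) (by norm_num) (by norm_num), ι_mem_img hyp] at h3
    have h4 : ((gx xC 0 * (gx xC 2 * gx xC 7) : CC) : L5) = x 0 1 * (x 0 3 * x 2 3) := by
      rw [← c0, ← c2, ← c7]; rfl
    rw [h4, mem_R1_iff, cd_mul, cd_mul, cdx, cdx, cdx] at h3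
    exact absurd h3 (by decide +kernel)

theorem mem_R2_iff' {g : L5} : g ∈ R2 ↔ inPf (msk' PR2) (cd g) = true := by
  rw [R2, mem_pat_iff]

theorem y2_ex : ∃ y : Cfsg.Spor.He, y * z * y⁻¹ ∈ img iota R2 ∧ y ∉ normalizer (img iota R2 : Set Cfsg.Spor.He) := by
  refine ⟨E [15], ?_, ?_⟩
  · have h1 : E [15] * z * (E [15])⁻¹ = E [3, 6] := by
      rw [mul_inv_eq_iff_eq_mul, z_eq, ← E_append, ← E_append]
      exact E_eq (by decide +kernel)
    rw [h1]
    apply E_mem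
    intro n hn
    simp only [List.mem_cons, List.not_mem_nil, or_false] at hn
    rcases hn with rfl | rfl
    · refine ⟨by norm_num, ?_⟩
      rw [c3, mem_R2_iff', cdx]; decide +kernel
    · refine ⟨by norm_num, ?_⟩
      rw [c6, mem_R2_iff', cdx]; decide +kernel
  · intro h
    have h1 : E [15] * E [9] * (E [15])⁻¹ = E [4, 6, 9] := by
      rw [mul_inv_eq_iff_eq_mul, ← E_append, ← E_append]
      exact E_eq (by decide +kernel)
    have h2 : E [9] ∈ img iota R2 := by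
      apply E_mem
      intro n hn
      rw [List.mem_singleton] at hn
      subst hn
      refine ⟨by norm_num, ?_⟩
      rw [c9, mem_R2_iff', cdx]; decide +kernel
    have h3 := (mem_normalizer_iff.1 h _).1 h2
    rw [h1, E_three (by norm_num) (by norm_num) (by norm_num), ι_mem_img hyp] at h3
    have h4 : ((gx xC 4 * (gx xC 6 * gx xC 9) : CC) : L5) = x 1 2 * (x 1 4 * x 3 4) := by
      rw [← c4, ← c6, ← c9]; rfl
    rw [h4, mem_R2_iff', cd_mul, cd_mul, cdx, cdx, cdx] at h3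
    exact absurd h3 (by decide +kernel)

/-- **the configuration of the Held group** -/
theorem ctx : Ctx z iota where
  hyp := hyp
  nm := by rw [iota_vC]; exact nm_v
  y1 := y1_ex
  y2 := y2_ex

/-! ### Frames from words -/

def cw (c : ZMod 2) (w : List ℕ) : List ℕ := if c = 1 then w else []

/-- the word of the vector `v` -/
def wv (b : Fin 6 → List ℕ) (v : W) : List ℕ :=
  cw v.1.1 (b 0) ++ (cw v.1.2 (b 1) ++ (cw v.2.1.1 (b 2) ++ (cw v.2.1.2 (b 3) ++ (cw v.2.2.1 (b 4) ++ cw v.2.2.2 (b 5)))))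

/-- the word of a representative of the class -/
def bas (v : W) : List ℕ := if (HexW.cls v).isSome then [0, 8] else [3]

theorem E_cw_add {w : List ℕ} (hw : E w * E w = 1) (c d : ZMod 2) : E (cw (c + d) w) = E (cw c w) * E (cw d w) := by
  have h0 : cw 0 w = [] := rfl
  have h1 : cw 1 w = w := rfl
  rcases zmod2_cases c with rfl | rfl <;> rcases zmod2_cases d with rfl | rfl
  · rw [add_zero, h0, E_nil, mul_one]
  · rw [zero_add, h0, E_nil, one_mul]
  · rw [add_zero, h0, E_nil, mul_one]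
  · rw [show (1 : ZMod 2) + 1 = 0 from rfl, h0, h1, E_nil, hw]

theorem cw_comm {u v : List ℕ} (h : Commute (E u) (E v)) (c d : ZMod 2) : Commute (E (cw c u)) (E (cw d v)) := by
  unfold cw
  split <;> split
  · exact h
  · rw [E_nil]; exact Commute.one_right _
  · rw [E_nil]; exact Commute.one_left _
  · rw [E_nil]

theorem E_wv_add {b : Fin 6 → List ℕ} (hs : ∀ i, E (b i) * E (b i) = 1) (hc : ∀ i j, Commute (E (b i)) (E (b j))) (u v : W) :
    E (wv b (u + v)) = E (wv b u) * E (wv b v) := by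
  have c : ∀ i j x y, Commute (E (cw x (b i))) (E (cw y (b j))) := fun i j x y => cw_comm (hc i j) x y
  show E (cw (u.1.1 + v.1.1) (b 0) ++ (cw (u.1.2 + v.1.2) (b 1) ++ (cw (u.2.1.1 + v.2.1.1) (b 2) ++
    (cw (u.2.1.2 + v.2.1.2) (b 3) ++ (cw (u.2.2.1 + v.2.2.1) (b 4) ++ cw (u.2.2.2 + v.2.2.2) (b 5)))))) = _
  unfold wv
  simp only [E_append]
  rw [E_cw_add (hs 0), E_cw_add (hs 1), E_cw_add (hs 2), E_cw_add (hs 3), E_cw_add (hs 4), E_cw_add (hs 5)]
  rw [(c 4 5 _ _).mul_mul_mul_comm, ((c 3 4 _ _).mul_right (c 3 5 _ _)).mul_mul_mul_comm,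
    ((c 2 3 _ _).mul_right ((c 2 4 _ _).mul_right (c 2 5 _ _))).mul_mul_mul_comm,
    ((c 1 2 _ _).mul_right ((c 1 3 _ _).mul_right ((c 1 4 _ _).mul_right (c 1 5 _ _)))).mul_mul_mul_comm,
    ((c 0 1 _ _).mul_right ((c 0 2 _ _).mul_right ((c 0 3 _ _).mul_right ((c 0 4 _ _).mul_right (c 0 5 _ _))))).mul_mul_mul_comm]

theorem mem_norm_of {G : Type*} [Group G] [Finite G] {V : Subgroup G} {g : G} (h : ∀ x ∈ V, g * x * g⁻¹ ∈ V) :
    g ∈ normalizer (V : Set G) := by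
  have h2 : V.map (MulAut.conj g).toMonoidHom = V := by
    apply Subgroup.eq_of_le_of_card_ge
    · rintro _ ⟨v, hv, rfl⟩
      exact h v hv
    · rw [Subgroup.card_map_of_injective (MulAut.conj g).injective]
  rw [mem_normalizer_iff]
  intro x
  refine ⟨h x, fun hx => ?_⟩
  rw [← h2] at hx
  obtain ⟨y, hy, e⟩ := hx
  have h3 : y = x := (MulAut.conj g).injective e
  rw [← h3]; exact hy

theorem wv_basis (b : Fin 6 → List ℕ) : wv b (e1, 0, 0) = b 0 ∧ wv b (ew, 0, 0) = b 1 ∧ wv b (0, e1, 0) = b 2 ∧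
    wv b (0, ew, 0) = b 3 ∧ wv b (0, 0, e1) = b 4 ∧ wv b (0, 0, ew) = b 5 := by
  refine ⟨?_, ?_, ?_, ?_, ?_, ?_⟩ <;> simp [wv, cw, e1, ew]

/-- the image of a subgroup under a word, from the images of the basis -/
theorem norm_of {b : Fin 6 → List ℕ} {V : Subgroup Cfsg.Spor.He} (hadd : ∀ u v, E (wv b (u + v)) = E (wv b u) * E (wv b v))
    (hV : ∀ g, g ∈ V ↔ ∃ w, E (wv b w) = g) {w6 : List ℕ} {I : Fin 6 → W}
    (h6 : ∀ i : Fin 6, E w6 * E (b i) = E (wv b (I i)) * E w6) : E w6 ∈ normalizer (V : Set Cfsg.Spor.He) := by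
  have hz : E (wv b 0) = 1 := by
    have h1 := hadd 0 0
    rw [add_zero] at h1
    exact left_eq_mul.1 h1
  have key : ∀ w, E w6 * E (wv b w) * (E w6)⁻¹ ∈ V := by
    have hb : ∀ i, E w6 * E (b i) * (E w6)⁻¹ ∈ V := by
      intro i
      rw [h6, mul_inv_cancel_right]
      exact (hV _).2 ⟨_, rfl⟩
    obtain ⟨t0, t1, t2, t3, t4, t5⟩ := wv_basis b
    apply induct (P := fun w => E w6 * E (wv b w) * (E w6)⁻¹ ∈ V)
    · intro u v hu hv
      have := mul_mem hu hv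
      have e : E w6 * E (wv b u) * (E w6)⁻¹ * (E w6 * E (wv b v) * (E w6)⁻¹) = E w6 * E (wv b (u + v)) * (E w6)⁻¹ := by
        rw [hadd]; group
      rwa [e] at this
    · rw [hz, mul_one, mul_inv_cancel]; exact one_mem _
    · rw [t0]; exact hb 0
    · rw [t1]; exact hb 1
    · rw [t2]; exact hb 2
    · rw [t3]; exact hb 3
    · rw [t4]; exact hb 4
    · rw [t5]; exact hb 5
  apply mem_norm_of
  intro x hx
  obtain ⟨w, rfl⟩ := (hV x).1 hx
  exact key w

theorem conj_cert {C v : List ℕ} {s : List ℕ} (h : eqW (C ++ s) (v ++ C) = true) : IsConj (E s) (E v) := by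
  refine isConj_iff.2 ⟨E C, ?_⟩
  have h1 := E_eq h
  rw [E_append, E_append] at h1
  rw [h1, mul_inv_cancel_right]

/-- **A frame from words** -/
theorem mk {b : Fin 6 → List ℕ} {C : W → List ℕ} {V : Subgroup Cfsg.Spor.He} {σ : Equiv.Perm (Fin 6)} {w6 w2 : List ℕ}
    {I6 I2 J6 J2 : Fin 6 → W}
    (hs : ∀ i, eqW (b i ++ b i) [] = true) (hc : ∀ i j, eqW (b i ++ b j) (b j ++ b i) = true)
    (hcert : ∀ v : W, v = 0 ∨ eqW (C v ++ bas v) (wv b v ++ C v) = true)
    (hV : Nat.card V = 64) (hbV : ∀ i, E (b i) ∈ V) (hcen : ∀ g, (∀ v ∈ V, g * v = v * g) → g ∈ V)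
    (hσ : σ.IsCycle) (hσ' : σ.support = Finset.univ)
    (h6 : ∀ i : Fin 6, eqW (w6 ++ b i) (wv b (I6 i) ++ w6) = true) (h2 : ∀ i : Fin 6, eqW (w2 ++ b i) (wv b (I2 i) ++ w2) = true)
    (j6 : ∀ i : Fin 6, HexW.cls (J6 i) = some (σ i)) (k6 : ∀ i : Fin 6, eqW (w6 ++ wv b (rep i)) (wv b (J6 i) ++ w6) = true)
    (j2 : ∀ i : Fin 6, HexW.cls (J2 i) = some (Equiv.swap 0 (σ 0) i))
    (k2 : ∀ i : Fin 6, eqW (w2 ++ wv b (rep i)) (wv b (J2 i) ++ w2) = true) :
    Frame z V (fun v => E (wv b v)) σ (E w6) (E w2) := by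
  have hs' : ∀ i, E (b i) * E (b i) = 1 := by
    intro i
    rw [← E_append, ← E_nil]; exact E_eq (hs i)
  have hc' : ∀ i j, Commute (E (b i)) (E (b j)) := by
    intro i j
    show E (b i) * E (b j) = E (b j) * E (b i)
    rw [← E_append, ← E_append]; exact E_eq (hc i j)
  have hadd := E_wv_add hs' hc'
  have hzero : E (wv b 0) = 1 := by
    have h1 := hadd 0 0
    rw [add_zero] at h1
    exact left_eq_mul.1 h1
  have hcj : ∀ v : W, v ≠ 0 → IsConj (E (bas v)) (E (wv b v)) := by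
    intro v hv
    exact conj_cert ((hcert v).resolve_left hv)
  have hz1 : z ≠ 1 := z_ne_one
  have hv1 : E [0, 8] ≠ 1 := by rw [← v_eq]; exact v_ne
  have hbas : ∀ v, E (bas v) ≠ 1 := by
    intro v
    unfold bas
    split
    · exact hv1
    · rw [← z_eq]; exact hz1
  have hne : ∀ v : W, v ≠ 0 → E (wv b v) ≠ 1 := by
    intro v hv h
    have h1 := hcj v hv
    rw [h] at h1
    exact hbas v (isConj_one_left.1 h1)
  have hinj : Function.Injective (fun v => E (wv b v)) := by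
    intro u v huv
    have huv' : E (wv b u) = E (wv b v) := huv
    by_contra hne'
    have h1 : u + v ≠ 0 := by
      intro h
      apply hne'
      have h2 : v + v = 0 := (by decide +kernel : ∀ w : W, w + w = 0) v
      exact add_right_cancel (h.trans h2.symm)
    apply hne _ h1
    rw [hadd, huv', ← hadd, (by decide +kernel : ∀ w : W, w + w = 0) v, hzero]
  have hmem' : ∀ w, E (wv b w) ∈ V := by
    obtain ⟨t0, t1, t2, t3, t4, t5⟩ := wv_basis b
    apply induct (P := fun w => E (wv b w) ∈ V)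
    · intro u v hu hv
      rw [hadd]; exact mul_mem hu hv
    · rw [hzero]; exact one_mem _
    · rw [t0]; exact hbV 0
    · rw [t1]; exact hbV 1
    · rw [t2]; exact hbV 2
    · rw [t3]; exact hbV 3
    · rw [t4]; exact hbV 4
    · rw [t5]; exact hbV 5
  have hcardW : Nat.card W = 64 := by
    show Nat.card ((ZMod 2 × ZMod 2) × (ZMod 2 × ZMod 2) × (ZMod 2 × ZMod 2)) = 64
    simp only [Nat.card_prod, Nat.card_zmod]
  have hmem : ∀ g, g ∈ V ↔ ∃ w, E (wv b w) = g := by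
    let f : W → V := fun w => ⟨E (wv b w), hmem' w⟩
    have hf : Function.Injective f := fun u v h => hinj (congrArg Subtype.val h)
    have hb : Function.Bijective f := (Nat.bijective_iff_injective_and_card f).2 ⟨hf, by rw [hcardW, hV]⟩
    intro g
    constructor
    · intro hg
      obtain ⟨w, hw⟩ := hb.2 ⟨g, hg⟩
      exact ⟨w, congrArg Subtype.val hw⟩
    · rintro ⟨w, rfl⟩
      exact hmem' w
  have h6' : ∀ i : Fin 6, E w6 * E (b i) = E (wv b (I6 i)) * E w6 := by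
    intro i
    rw [← E_append, ← E_append]; exact E_eq (h6 i)
  have h2' : ∀ i : Fin 6, E w2 * E (b i) = E (wv b (I2 i)) * E w2 := by
    intro i
    rw [← E_append, ← E_append]; exact E_eq (h2 i)
  refine
    { add := hadd
      inj := hinj
      mem := hmem
      cls := ?_
      cen := hcen
      cyc := hσ
      supp := hσ'
      g_mem := norm_of hadd hmem h6'
      h_mem := norm_of hadd hmem h2'
      g_act := ?_
      h_act := ?_ }
  · intro w hw
    have h1 := hcj w hw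
    constructor
    · intro h3 h4
      have h5 : bas w = [0, 8] := by unfold bas; rw [if_pos h3]
      rw [h5] at h1
      exact nm_v (h4.trans h1.symm)
    · intro h3
      by_contra h4
      have h5 : bas w = [3] := by unfold bas; rw [if_neg h4]
      rw [h5, ← z_eq] at h1
      exact h3 h1
  · intro i
    refine ⟨J6 i, j6 i, ?_⟩
    show E w6 * E (wv b (rep i)) * (E w6)⁻¹ = E (wv b (J6 i))
    have h3 := E_eq (k6 i)
    rw [E_append, E_append] at h3
    rw [h3, mul_inv_cancel_right]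
  · intro i
    refine ⟨J2 i, j2 i, ?_⟩
    show E w2 * E (wv b (rep i)) * (E w2)⁻¹ = E (wv b (J2 i))
    have h3 := E_eq (k2 i)
    rw [E_append, E_append] at h3
    rw [h3, mul_inv_cancel_right]

end Cfsg.Agent.H6.HeWords
end

-- part: H6/He/Frames
section
/-!
# The frames on the two elementary abelian subgroups of order 64 of the Held group (helper6)
-/

set_option autoImplicit false

namespace Cfsg.Agent.H6.HeFrames

open Subgroup Cfsg Cfsg.Agent.SporadicRecognition.HeldModel Cfsg.Agent.KFacts.TwoSix.Base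
  Cfsg.Agent.KFacts.TwoSix.Facts Cfsg.Agent.KFacts.TwoSix.U Cfsg.Agent.H6.HeElt Cfsg.Agent.H6.HeOver
  Cfsg.Agent.KFacts.He.Words Cfsg.Agent.KFacts.He.Hyp Cfsg.Agent.QTUnique.He
  Cfsg.Agent.SporadicRecognition.CosetCert Cfsg.Agent.Held.Letters Cfsg.Agent.KFacts.TwoSix.OfSt
  Cfsg.Agent.H6.HexW Cfsg.Agent.H6.HeWords
open Cfsg.Agent.KFacts.He.Bound (z)

/-- the index of a vector -/
def idx (v : W) : ℕ := v.1.1.val + 2 * v.1.2.val + 4 * v.2.1.1.val + 8 * v.2.1.2.val + 16 * v.2.2.1.val + 32 * v.2.2.2.val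

/-- the elements centralizing the pattern subgroup `i ≤ a < j` -/
theorem cen_gen {P : Fin 5 → Fin 5 → Bool} {a : Fin 5} (ha : a < 4) (hP : ∀ i j, P i j = (decide (i ≤ a) && decide (a < j)))
    {g : L5} (hg : g ∈ CC) (h : ∀ v : L5, Pat P v → g * v = v * g) : Pat P g := by
  have hx : ∀ i j : Fin 5, (hi : i ≤ a) → (hj : a < j) → g * x i j (hi.trans_lt hj).ne = x i j (hi.trans_lt hj).ne * g := by
    intro i j hi hj
    apply h
    intro k l hkl
    rw [coe_x, Matrix.sub_apply, transvection_apply', Matrix.one_apply, add_sub_cancel_left]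
    rw [if_neg]
    rintro ⟨rfl, rfl⟩
    rw [hP] at hkl
    simp [hi, hj] at hkl
  have hc := fun i j hi hj => comm_x (i := i) (j := j) _ (hx i j hi hj)
  have h0 : (0 : Fin 5) ≤ a := Fin.zero_le a
  have h44 : mt g 4 4 = 1 := by
    have h1 := hc 0 4 h0 ha 0 4
    rw [if_pos rfl, if_pos rfl] at h1
    exact h1.symm.trans (CC_00 hg)
  intro k l hkl
  rw [hP] at hkl
  rw [Matrix.sub_apply, sub_eq_zero]
  by_cases hk : k = l
  · subst hk
    rw [Matrix.one_apply_eq]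
    by_cases hka : k ≤ a
    · have h1 := hc k 4 hka ha k 4
      rw [if_pos rfl, if_pos rfl] at h1
      rw [h1]; exact h44
    · have h1 := hc 0 k h0 (not_le.1 hka) 0 k
      rw [if_pos rfl, if_pos rfl] at h1
      rw [← h1]
      exact CC_00 hg
  · rw [Matrix.one_apply_ne hk]
    by_cases hl : l ≤ a
    · have h1 := hc l 4 hl ha k 4
      rwa [if_pos rfl, if_neg hk] at h1
    · have hka : a < k := by
        by_contra hka
        rw [decide_eq_true (not_lt.1 hka), decide_eq_true (not_le.1 hl)] at hkl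
        exact absurd hkl (by decide)
      have h1 := hc 0 k h0 hka 0 l
      rw [if_pos rfl, if_neg (Ne.symm hk)] at h1
      exact h1.symm

theorem cen_V1 {g : L5} (hg : g ∈ CC) (h : ∀ v ∈ V1, g * v = v * g) : g ∈ V1 :=
  cen_gen (a := 1) (by decide) (by decide) hg h

theorem cen_V2 {g : L5} (hg : g ∈ CC) (h : ∀ v ∈ V2, g * v = v * g) : g ∈ V2 :=
  cen_gen (a := 2) (by decide) (by decide) hg h

/-- the centralizer in the Held group -/
theorem cen_img {A : Subgroup L5} (hzA : zz ∈ A) (h : ∀ g : L5, g ∈ CC → (∀ v ∈ A, g * v = v * g) → g ∈ A) (hA : A ≤ CC)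
    (g : Cfsg.Spor.He) (hg : ∀ v ∈ img iota A, g * v = v * g) : g ∈ img iota A := by
  have h1 : g ∈ iota.range := by
    rw [mem_range hyp]
    exact hg z (z_mem_img hyp hzA)
  obtain ⟨u, rfl⟩ := h1
  rw [ι_mem_img hyp]
  apply h _ u.2
  intro v hv
  have h2 := hg (iota ⟨v, hA hv⟩) (mem_img.2 ⟨_, hv, rfl⟩)
  rw [← map_mul, ← map_mul] at h2
  exact congrArg Subtype.val (hyp.inj h2)

/-! ### V2 -/

def bA : Fin 6 → List ℕ := ![[3, 5], [2, 3, 6], [2, 3, 5], [2, 6], [3, 7], [2, 3, 8]]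

def lA : List (List ℕ) := [[], [12, 0, 11, 10, 5, 4], [0, 11, 10, 5, 4], [13, 0, 11, 10, 5, 4], [12, 11, 10, 5, 4], [12], [14, 13], [15], [11, 10, 5, 4], [15, 13], [], [14, 12], [13, 11, 10, 5, 4], [14], [15, 12], [13], [12, 4, 10, 0, 11, 10, 5, 4], [10, 14, 12], [15, 10, 14, 12], [14, 10, 14, 12], [10, 15, 12], [12, 4, 10, 11, 10, 5, 4], [10, 15, 10, 14], [15, 4, 10, 14, 12], [14, 10, 15, 12], [10, 14, 10, 15], [4, 10, 14, 12], [12, 10, 0, 11, 10, 5, 4], [15, 10, 15, 12], [14, 4, 10, 14, 12], [12, 10, 11, 10, 5, 4], [4, 10, 15, 12], [4, 10, 0, 11, 10, 5, 4], [14, 10, 14], [10, 14], [15, 10, 14], [15, 10, 15], [4, 10, 15], [14, 4, 10, 14], [10, 11, 10, 5, 4], [10, 15], [15, 4, 10, 14], [4, 10, 11, 10, 5, 4], [1, 14, 10, 14], [14, 10, 15], [10, 0, 11, 10, 5, 4], [4, 15, 10, 14], [4, 10, 14], [13, 4, 10, 0, 11, 10, 5, 4], [15, 10, 14, 13], [14, 10, 14, 13], [10, 14, 13], [14, 10, 15, 13], [4, 10, 14, 13], [13, 10, 0,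 11, 10, 5, 4], [9, 15, 10, 14, 12], [15, 10, 15, 13], [13, 10, 11, 10, 5, 4], [4, 10, 15, 13], [10, 14, 10, 14], [10, 15, 13], [10, 15, 10, 14, 12], [10, 15, 10, 15], [13, 4, 10, 11, 10, 5, 4]]

def CA (v : W) : List ℕ := lA.getD (idx v) []

def I6A : Fin 6 → W := ![((1, 1), (1, 1), (1, 1)), ((0, 1), (0, 1), (0, 1)), ((0, 0), (0, 0), (1, 1)), ((0, 0), (0, 0), (0, 1)), ((1, 0), (0, 1), (1, 1)), ((1, 1), (1, 0), (0, 1))]
def I2A : Fin 6 → W := ![((1, 1), (1, 1), (1, 1)), ((0, 1), (0, 1), (0, 1)), ((0, 0), (1, 1), (0, 0)), ((0, 0), (0, 1), (0, 0)), ((0, 0), (0, 0), (1, 1)), ((0, 0), (0, 0), (0, 1))]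
def J6A : Fin 6 → W := ![((1, 1), (1, 1), (1, 1)), ((0, 0), (0, 0), (1, 1)), ((1, 0), (0, 1), (1, 1)), ((0, 1), (1, 0), (1, 1)), ((1, 0), (0, 0), (0, 0)), ((0, 0), (0, 1), (0, 0))]
def J2A : Fin 6 → W := ![((1, 1), (1, 1), (1, 1)), ((0, 0), (1, 1), (0, 0)), ((0, 0), (0, 0), (1, 1)), ((1, 1), (0, 0), (0, 0)), ((1, 1), (1, 0), (0, 1)), ((1, 1), (0, 1), (1, 0))]

def sA : Equiv.Perm (Fin 6) where
  toFun := ![3, 2, 4, 5, 0, 1]
  invFun := ![4, 5, 1, 0, 2, 3]
  left_inv := by decide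
  right_inv := by decide

private noncomputable def _root_.Cfsg.Agent.KO4074f71.k30 : (by first | exact type_of% @Cfsg.Agent.SporadicB.HePerm.look | exact Unit : Sort _) := by first | (refine @Subtype.val _ (fun g => @Cfsg.Agent.SporadicB.HePerm.look = @g) (@Subtype.mk _ _ (@(fun x0 x1 => @Nat.land (@Nat.shiftRight @x0 (@Nat.mul (nat_lit 12) @x1)) (nat_lit 4095))) ?_); rfl') | exact @Cfsg.Agent.SporadicB.HePerm.look | exact ()
private theorem _root_.Cfsg.Agent.KO4074f71.e30 : (by first | exact @Cfsg.Agent.SporadicB.HePerm.look = @_root_.Cfsg.Agent.KO4074f71.k30 | exact True : Prop) := by first | (delta _root_.Cfsg.Agent.KO4074f71.k30; exact @Subtype.property _ (fun g => @Cfsg.Agent.SporadicB.HePerm.look = @g) _) | rfl | trivial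
private noncomputable def _root_.Cfsg.Agent.KO4074f71.k31 : (by first | exact type_of% @Cfsg.Agent.SporadicB.HePerm.tab | exact Unit : Sort _) := by first | (refine @Subtype.val _ (fun g => @Cfsg.Agent.SporadicB.HePerm.tab = @g) (@Subtype.mk _ _ (@(fun x0 => @Cfsg.Spor.He.Gen.rec.{1} @(fun x1 => ℕ) @Cfsg.Agent.SporadicB.HePerm.Data.ta @Cfsg.Agent.SporadicB.HePerm.Data.tb @Cfsg.Agent.SporadicB.HePerm.Data.tc @Cfsg.Agent.SporadicB.HePerm.Data.td @Cfsg.Agent.SporadicB.HePerm.Data.te @Cfsg.Agent.SporadicB.HePerm.Data.tf @Cfsg.Agent.SporadicB.HePerm.Data.tg @x0)) ?_); (try delta Cfsg.Agent.SporadicB.HePerm.tab); (try generalize @Cfsg.Agent.SporadicB.HePerm.Data.ta = g0); (try generalize @Cfsg.Agent.SporadicB.HePerm.Data.tb = g1); (try generalize @Cfsg.Agent.SporadicB.HePerm.Data.tc = g2); (try generalize @Cfsg.Agent.SporadicB.HePerm.Data.td = g3); (try generalize @Cfsg.Agent.SporadicB.HePerm.Data.te = g4); (try generalize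 @Cfsg.Agent.SporadicB.HePerm.Data.tf = g5); (try generalize @Cfsg.Agent.SporadicB.HePerm.Data.tg = g6); rfl') | exact @Cfsg.Agent.SporadicB.HePerm.tab | exact ()
private theorem _root_.Cfsg.Agent.KO4074f71.e31 : (by first | exact @Cfsg.Agent.SporadicB.HePerm.tab = @_root_.Cfsg.Agent.KO4074f71.k31 | exact True : Prop) := by first | (delta _root_.Cfsg.Agent.KO4074f71.k31; exact @Subtype.property _ (fun g => @Cfsg.Agent.SporadicB.HePerm.tab = @g) _) | rfl | trivial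
private noncomputable def _root_.Cfsg.Agent.KO4074f71.k32 : (by first | exact type_of% @Cfsg.Agent.SporadicB.HePerm.act | exact Unit : Sort _) := by first | (refine @Subtype.val _ (fun g => @Cfsg.Agent.SporadicB.HePerm.act = @g) (@Subtype.mk _ _ (@(fun x0 x1 => @List.rec.{1, 0} @Cfsg.Spor.He.Gen @(fun x2 => ℕ → ℕ) @(fun x2 => @x2) @(fun x2 x3 x4 x5 => @Cfsg.Agent.KO4074f71.k30 (@Cfsg.Agent.KO4074f71.k31 @x2) (@x4 @x5)) @x0 @x1)) ?_); rewrite [← Cfsg.Agent.KO4074f71.e31, ← Cfsg.Agent.KO4074f71.e30]; funext a0 a1; refine (congrFun (_root_.Cfsg.Agent.KO4074f71.e3 (fun a0 a1 => @Cfsg.Agent.SporadicB.HePerm.act a0 a1) ?_ (fun c0 c1 => ?_) a0) a1 :) <;> ((try delta Cfsg.Agent.SporadicB.HePerm.act Cfsg.Agent.SporadicB.HePerm.act._f); (try generalize @Cfsg.Agent.SporadicB.HePerm.look = g0); (try generalize @Cfsg.Agent.SporadicB.HePerm.tab = g1); rfl')) | exact @Cfsg.Agent.SporadicB.HePerm.act | exact ()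
private theorem _root_.Cfsg.Agent.KO4074f71.e32 : (by first | exact @Cfsg.Agent.SporadicB.HePerm.act = @_root_.Cfsg.Agent.KO4074f71.k32 | exact True : Prop) := by first | (delta _root_.Cfsg.Agent.KO4074f71.k32; exact @Subtype.property _ (fun g => @Cfsg.Agent.SporadicB.HePerm.act = @g) _) | rfl | trivial
private noncomputable def _root_.Cfsg.Agent.KO4074f71.k33 : (by first | exact type_of% @Cfsg.Agent.HeldHe.Model.W | exact Unit : Sort _) := by first | (refine @Subtype.val _ (fun g => @Cfsg.Agent.HeldHe.Model.W = @g) (@Subtype.mk _ _ (@(fun x0 => @Decidable.rec.{1} _ @(fun x1 => @List.{0} @Cfsg.Spor.He.Gen) @(fun x1 => @Decidable.rec.{1} _ @(fun x2 => @List.{0} @Cfsg.Spor.He.Gen) @(fun x2 => @Decidable.rec.{1} _ @(fun x3 => @List.{0} @Cfsg.Spor.He.Gen) @(fun x3 => @Decidable.rec.{1} _ @(fun x4 => @List.{0} @Cfsg.Spor.He.Gen) @(fun x4 => @Decidable.rec.{1} _ @(fun x5 => @List.{0} @Cfsg.Spor.He.Gen) @(fun x5 => @Decidable.rec.{1}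 _ @(fun x6 => @List.{0} @Cfsg.Spor.He.Gen) @(fun x6 => @Decidable.rec.{1} _ @(fun x7 => @List.{0} @Cfsg.Spor.He.Gen) @(fun x7 => @Decidable.rec.{1} _ @(fun x8 => @List.{0} @Cfsg.Spor.He.Gen) @(fun x8 => @Decidable.rec.{1} _ @(fun x9 => @List.{0} @Cfsg.Spor.He.Gen) @(fun x9 => @Decidable.rec.{1} _ @(fun x10 => @List.{0} @Cfsg.Spor.He.Gen) @(fun x10 => []) @(fun x10 => @Eq.rec.{1, 1} ℕ (nat_lit 9) @(fun x11 x12 => @List.{0} @Cfsg.Spor.He.Gen) (@Cfsg.Spor.He.Gen.c :: (@Cfsg.Spor.He.Gen.d :: (@Cfsg.Spor.He.Gen.g :: (@Cfsg.Spor.He.Gen.f :: (@Cfsg.Spor.He.Gen.d :: (@Cfsg.Spor.He.Gen.c :: (@Cfsg.Spor.He.Gen.d :: (@Cfsg.Spor.He.Gen.c :: (@Cfsg.Spor.He.Gen.d :: (@Cfsg.Spor.He.Gen.f :: (@Cfsg.Spor.He.Gen.g :: (@Cfsg.Spor.He.Gen.d :: (@Cfsg.Spor.He.Gen.c :: []))))))))))))) @x0 (@Eq.symm.{1} _ _ _ @x10)) (@Cfsg.Agent.KO4074f71.k19 @x0 (nat_lit 9))) @(fun x9 => @Eq.rec.{1, 1} ℕ (nat_lit 8) @(fun x10 x11 => @List.{0} @Cfsg.Spor.He.Gen)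 (@Cfsg.Spor.He.Gen.c :: (@Cfsg.Spor.He.Gen.d :: (@Cfsg.Spor.He.Gen.f :: (@Cfsg.Spor.He.Gen.e :: (@Cfsg.Spor.He.Gen.d :: (@Cfsg.Spor.He.Gen.c :: (@Cfsg.Spor.He.Gen.d :: (@Cfsg.Spor.He.Gen.c :: (@Cfsg.Spor.He.Gen.d :: (@Cfsg.Spor.He.Gen.c :: (@Cfsg.Spor.He.Gen.d :: (@Cfsg.Spor.He.Gen.e :: (@Cfsg.Spor.He.Gen.f :: (@Cfsg.Spor.He.Gen.d :: (@Cfsg.Spor.He.Gen.c :: []))))))))))))))) @x0 (@Eq.symm.{1} _ _ _ @x9)) (@Cfsg.Agent.KO4074f71.k19 @x0 (nat_lit 8))) @(fun x8 => @Eq.rec.{1, 1} ℕ (nat_lit 7) @(fun x9 x10 => @List.{0} @Cfsg.Spor.He.Gen) (@Cfsg.Spor.He.Gen.d :: (@Cfsg.Spor.He.Gen.b :: (@Cfsg.Spor.He.Gen.c :: (@Cfsg.Spor.He.Gen.d :: (@Cfsg.Spor.He.Gen.c :: (@Cfsg.Spor.He.Gen.b :: (@Cfsg.Spor.He.Gen.d :: []))))))) @x0 (@Eq.symm.{1} _ _ _ @x8)) (@Cfsg.Agent.KO4074f71.k19 @x0 (nat_lit 7))) @(fun x7 => @Eq.rec.{1, 1} ℕ (nat_lit 6) @(fun x8 x9 => @List.{0} @Cfsg.Spor.He.Gen) (@Cfsg.Spor.He.Gen.c :: (@Cfsg.Spor.He.Gen.d :: (@Cfsg.Spor.He.Gen.f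 :: (@Cfsg.Spor.He.Gen.c :: (@Cfsg.Spor.He.Gen.d :: (@Cfsg.Spor.He.Gen.c :: (@Cfsg.Spor.He.Gen.d :: (@Cfsg.Spor.He.Gen.f :: (@Cfsg.Spor.He.Gen.d :: (@Cfsg.Spor.He.Gen.c :: (@Cfsg.Spor.He.Gen.d :: (@Cfsg.Spor.He.Gen.c :: (@Cfsg.Spor.He.Gen.b :: (@Cfsg.Spor.He.Gen.c :: (@Cfsg.Spor.He.Gen.d :: (@Cfsg.Spor.He.Gen.c :: (@Cfsg.Spor.He.Gen.d :: (@Cfsg.Spor.He.Gen.f :: (@Cfsg.Spor.He.Gen.d :: (@Cfsg.Spor.He.Gen.c :: (@Cfsg.Spor.He.Gen.d :: (@Cfsg.Spor.He.Gen.c :: (@Cfsg.Spor.He.Gen.f :: (@Cfsg.Spor.He.Gen.d :: (@Cfsg.Spor.He.Gen.c :: []))))))))))))))))))))))))) @x0 (@Eq.symm.{1} _ _ _ @x7)) (@Cfsg.Agent.KO4074f71.k19 @x0 (nat_lit 6))) @(fun x6 => @Eq.rec.{1, 1} ℕ (nat_lit 5) @(fun x7 x8 => @List.{0} @Cfsg.Spor.He.Gen) (@Cfsg.Spor.He.Gen.c :: (@Cfsg.Spor.He.Gen.d :: (@Cfsg.Spor.He.Gen.f :: (@Cfsg.Spor.He.Gen.e :: (@Cfsg.Spor.He.Gen.d :: (@Cfsg.Spor.He.Gen.c :: (@Cfsg.Spor.He.Gen.d :: (@Cfsg.Spor.He.Gen.b :: (@Cfsg.Spor.He.Gen.c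 :: (@Cfsg.Spor.He.Gen.d :: (@Cfsg.Spor.He.Gen.g :: (@Cfsg.Spor.He.Gen.f :: (@Cfsg.Spor.He.Gen.g :: (@Cfsg.Spor.He.Gen.d :: (@Cfsg.Spor.He.Gen.c :: (@Cfsg.Spor.He.Gen.b :: (@Cfsg.Spor.He.Gen.d :: (@Cfsg.Spor.He.Gen.c :: (@Cfsg.Spor.He.Gen.d :: (@Cfsg.Spor.He.Gen.e :: (@Cfsg.Spor.He.Gen.f :: (@Cfsg.Spor.He.Gen.d :: (@Cfsg.Spor.He.Gen.c :: []))))))))))))))))))))))) @x0 (@Eq.symm.{1} _ _ _ @x6)) (@Cfsg.Agent.KO4074f71.k19 @x0 (nat_lit 5))) @(fun x5 => @Eq.rec.{1, 1} ℕ (nat_lit 4) @(fun x6 x7 => @List.{0} @Cfsg.Spor.He.Gen) (@Cfsg.Spor.He.Gen.d :: (@Cfsg.Spor.He.Gen.c :: (@Cfsg.Spor.He.Gen.d :: []))) @x0 (@Eq.symm.{1} _ _ _ @x5)) (@Cfsg.Agent.KO4074f71.k19 @x0 (nat_lit 4))) @(fun x4 => @Eq.rec.{1, 1} ℕ (nat_lit 3) @(fun x5 x6 => @List.{0} @Cfsg.Spor.He.Gen) (@Cfsg.Spor.He.Gen.g :: (@Cfsg.Spor.He.Gen.e :: (@Cfsg.Spor.He.Gen.d :: (@Cfsg.Spor.He.Gen.f :: (@Cfsg.Spor.He.Gen.g :: (@Cfsg.Spor.He.Gen.d :: (@Cfsg.Spor.He.Gen.c ::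 (@Cfsg.Spor.He.Gen.b :: (@Cfsg.Spor.He.Gen.c :: (@Cfsg.Spor.He.Gen.d :: (@Cfsg.Spor.He.Gen.g :: (@Cfsg.Spor.He.Gen.f :: (@Cfsg.Spor.He.Gen.d :: (@Cfsg.Spor.He.Gen.e :: (@Cfsg.Spor.He.Gen.g :: []))))))))))))))) @x0 (@Eq.symm.{1} _ _ _ @x4)) (@Cfsg.Agent.KO4074f71.k19 @x0 (nat_lit 3))) @(fun x3 => @Eq.rec.{1, 1} ℕ (nat_lit 2) @(fun x4 x5 => @List.{0} @Cfsg.Spor.He.Gen) (@Cfsg.Spor.He.Gen.f :: (@Cfsg.Spor.He.Gen.d :: (@Cfsg.Spor.He.Gen.f :: []))) @x0 (@Eq.symm.{1} _ _ _ @x3)) (@Cfsg.Agent.KO4074f71.k19 @x0 (nat_lit 2))) @(fun x2 => @Eq.rec.{1, 1} ℕ (nat_lit 1) @(fun x3 x4 => @List.{0} @Cfsg.Spor.He.Gen) (@Cfsg.Spor.He.Gen.b :: (@Cfsg.Spor.He.Gen.a :: (@Cfsg.Spor.He.Gen.b :: []))) @x0 (@Eq.symm.{1} _ _ _ @x2)) (@Cfsg.Agent.KO4074f71.k19 @x0 (nat_lit 1))) @(fun x1 => @Eq.rec.{1, 1} ℕ (nat_lit 0) @(fun x2 x3 => @List.{0} @Cfsg.Spor.He.Gen) (@Cfsg.Spor.He.Gen.c :: (@Cfsg.Spor.He.Gen.d :: (@Cfsg.Spor.He.Gen.f :: (@Cfsg.Spor.He.Gen.d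 :: (@Cfsg.Spor.He.Gen.e :: (@Cfsg.Spor.He.Gen.c :: (@Cfsg.Spor.He.Gen.d :: (@Cfsg.Spor.He.Gen.c :: (@Cfsg.Spor.He.Gen.d :: (@Cfsg.Spor.He.Gen.c :: (@Cfsg.Spor.He.Gen.e :: (@Cfsg.Spor.He.Gen.d :: (@Cfsg.Spor.He.Gen.f :: (@Cfsg.Spor.He.Gen.d :: (@Cfsg.Spor.He.Gen.c :: []))))))))))))))) @x0 (@Eq.symm.{1} _ _ _ @x1)) (@Cfsg.Agent.KO4074f71.k19 @x0 (nat_lit 0)))) ?_); rewrite [← Cfsg.Agent.KO4074f71.e19]; rfl') | exact @Cfsg.Agent.HeldHe.Model.W | exact ()
private theorem _root_.Cfsg.Agent.KO4074f71.e33 : (by first | exact @Cfsg.Agent.HeldHe.Model.W = @_root_.Cfsg.Agent.KO4074f71.k33 | exact True : Prop) := by first | (delta _root_.Cfsg.Agent.KO4074f71.k33; exact @Subtype.property _ (fun g => @Cfsg.Agent.HeldHe.Model.W = @g) _) | rfl | trivial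
private noncomputable def _root_.Cfsg.Agent.KO4074f71.k34 : (by first | exact type_of% @Cfsg.Agent.HeldHe.Model.walk | exact Unit : Sort _) := by first | (refine @Subtype.val _ (fun g => @Cfsg.Agent.HeldHe.Model.walk = @g) (@Subtype.mk _ _ (@(fun x0 => @List.rec.{1, 0} ℕ @(fun x1 => ℕ → ℕ) @(fun x1 => @x1) @(fun x1 x2 x3 x4 => @Nat.rec.{1} @(fun x5 => ℕ) (@x3 (nat_lit 0)) @(fun x5 x6 => @x3 (@Nat.succ @x5)) (@Cfsg.Agent.KO4074f71.k32 (@Cfsg.Agent.KO4074f71.k33 @x1) @x4)) @x0)) ?_); rewrite [← Cfsg.Agent.KO4074f71.e33, ← Cfsg.Agent.KO4074f71.e32]; (try delta Cfsg.Agent.HeldHe.Model.walk); (try generalize @Cfsg.Agent.SporadicB.HePerm.act = g0); (try generalize @Cfsg.Agent.HeldHe.Model.W = g1); rfl') | exact @Cfsg.Agent.HeldHe.Model.walk | exact ()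
private theorem _root_.Cfsg.Agent.KO4074f71.e34 : (by first | exact @Cfsg.Agent.HeldHe.Model.walk = @_root_.Cfsg.Agent.KO4074f71.k34 | exact True : Prop) := by first | (delta _root_.Cfsg.Agent.KO4074f71.k34; exact @Subtype.property _ (fun g => @Cfsg.Agent.HeldHe.Model.walk = @g) _) | rfl | trivial
private noncomputable def _root_.Cfsg.Agent.KO4074f71.k35.{ku0} : type_of% @List.reverseAux.{ku0} := @(fun x0 x1 x2 => @List.rec.{(ku0+1), ku0} @x0 @(fun x3 => (@List.{ku0} @x0) → @List.{ku0} @x0) @(fun x3 => @x3) @(fun x3 x4 x5 x6 => @x5 (@x3 :: @x6)) @x1 @x2)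
private theorem _root_.Cfsg.Agent.KO4074f71.e35.{ku0} : @List.reverseAux.{ku0} = @_root_.Cfsg.Agent.KO4074f71.k35.{ku0} := by delta _root_.Cfsg.Agent.KO4074f71.k35; funext a0 a1 a2; refine (congrFun (_root_.Cfsg.Agent.KO4074f71.e3 (fun a1 a2 => @List.reverseAux.{ku0} a0 a1 a2) ?_ (fun c0 c1 => ?_) a1) a2 :) <;> (rfl')
private noncomputable def _root_.Cfsg.Agent.KO4074f71.k36.{ku0} : type_of% @List.append.{ku0} := @(fun x0 x1 x2 => @List.rec.{(ku0+1), ku0} @x0 @(fun x3 => (@List.{ku0} @x0) → @List.{ku0} @x0) @(fun x3 => @x3) @(fun x3 x4 x5 x6 => @x3 :: (@x5 @x6)) @x1 @x2)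
private theorem _root_.Cfsg.Agent.KO4074f71.e36.{ku0} : @List.append.{ku0} = @_root_.Cfsg.Agent.KO4074f71.k36.{ku0} := by delta _root_.Cfsg.Agent.KO4074f71.k36; funext a0 a1 a2; refine (congrFun (_root_.Cfsg.Agent.KO4074f71.e3 (fun a1 a2 => @List.append.{ku0} a0 a1 a2) ?_ (fun c0 c1 => ?_) a1) a2 :) <;> (rfl')
private noncomputable def _root_.Cfsg.Agent.KO4074f71.k37.{ku0} : type_of% @List.flatten.{ku0} := @(fun x0 x1 => @List.rec.{(ku0+1), ku0} (@List.{ku0} @x0) @(fun x2 => @List.{ku0} @x0) [] @(fun x2 x3 x4 => @Cfsg.Agent.KO4074f71.k36.{ku0} _ @x2 @x4) @x1)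
private theorem _root_.Cfsg.Agent.KO4074f71.e37.{ku0} : @List.flatten.{ku0} = @_root_.Cfsg.Agent.KO4074f71.k37.{ku0} := by delta _root_.Cfsg.Agent.KO4074f71.k37; rewrite [← Cfsg.Agent.KO4074f71.e36.{ku0}]; funext a0 a1; refine (_root_.Cfsg.Agent.KO4074f71.e3 (fun a1 => @List.flatten.{ku0} a0 a1) ?_ (fun c0 c1 => ?_) a1 :) <;> (rfl')
private noncomputable def _root_.Cfsg.Agent.KO4074f71.k38.{ku0, ku1} : type_of% @List.map.{ku0, ku1} := @(fun x0 x1 x2 x3 => @List.rec.{(ku1+1), ku0} @x0 @(fun x4 => @List.{ku1} @x1) [] @(fun x4 x5 x6 => (@x2 @x4) :: @x6) @x3)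
private theorem _root_.Cfsg.Agent.KO4074f71.e38.{ku0, ku1} : @List.map.{ku0, ku1} = @_root_.Cfsg.Agent.KO4074f71.k38.{ku0, ku1} := by delta _root_.Cfsg.Agent.KO4074f71.k38; funext a0 a1 a2 a3; refine (_root_.Cfsg.Agent.KO4074f71.e3 (fun a3 => @List.map.{ku0, ku1} a0 a1 a2 a3) ?_ (fun c0 c1 => ?_) a3 :) <;> (rfl')
private noncomputable def _root_.Cfsg.Agent.KO4074f71.k39 : (by first | exact type_of% @Cfsg.Agent.KFacts.He.Words.w16 | exact Unit : Sort _) := by first | (refine @Subtype.val _ (fun g => @Cfsg.Agent.KFacts.He.Words.w16 = @g) (@Subtype.mk _ _ (@(fun x0 => @Decidable.rec.{1} _ @(fun x1 => @List.{0} ℕ) @(fun x1 => @Decidable.rec.{1} _ @(fun x2 => @List.{0} ℕ) @(fun x2 => @Decidable.rec.{1} _ @(fun x3 => @List.{0} ℕ) @(fun x3 => @Decidable.rec.{1} _ @(fun x4 => @List.{0} ℕ) @(fun x4 => @Decidable.rec.{1} _ @(fun x5 => @List.{0} ℕ) @(fun x5 => @Decidable.rec.{1} _ @(fun x6 => @List.{0} ℕ) @(fun x6 => @Decidable.rec.{1}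 _ @(fun x7 => @List.{0} ℕ) @(fun x7 => @Decidable.rec.{1} _ @(fun x8 => @List.{0} ℕ) @(fun x8 => @Decidable.rec.{1} _ @(fun x9 => @List.{0} ℕ) @(fun x9 => @Decidable.rec.{1} _ @(fun x10 => @List.{0} ℕ) @(fun x10 => @Decidable.rec.{1} _ @(fun x11 => @List.{0} ℕ) @(fun x11 => @Decidable.rec.{1} _ @(fun x12 => @List.{0} ℕ) @(fun x12 => @Decidable.rec.{1} _ @(fun x13 => @List.{0} ℕ) @(fun x13 => @Decidable.rec.{1} _ @(fun x14 => @List.{0} ℕ) @(fun x14 => @Decidable.rec.{1} _ @(fun x15 => @List.{0} ℕ) @(fun x15 => @Decidable.rec.{1} _ @(fun x16 => @List.{0} ℕ) @(fun x16 => []) @(fun x16 => @Eq.rec.{1, 1} ℕ (nat_lit 15) @(fun x17 x18 => @List.{0} ℕ) ((nat_lit 2) :: ((nat_lit 7) :: [])) @x0 (@Eq.symm.{1} _ _ _ @x16)) (@Cfsg.Agent.KO4074f71.k19 @x0 (nat_lit 15))) @(fun x15 => @Eq.rec.{1, 1} ℕ (nat_lit 14) @(fun x16 x17 => @List.{0} ℕ) ((nat_lit 7) :: ((nat_lit 2) :: [])) @x0 (@Eq.symm.{1} _ _ _ @x15)) (@Cfsg.Agent.KO4074f71.k19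 @x0 (nat_lit 14))) @(fun x14 => @Eq.rec.{1, 1} ℕ (nat_lit 13) @(fun x15 x16 => @List.{0} ℕ) ((nat_lit 5) :: ((nat_lit 9) :: [])) @x0 (@Eq.symm.{1} _ _ _ @x14)) (@Cfsg.Agent.KO4074f71.k19 @x0 (nat_lit 13))) @(fun x13 => @Eq.rec.{1, 1} ℕ (nat_lit 12) @(fun x14 x15 => @List.{0} ℕ) ((nat_lit 9) :: ((nat_lit 5) :: [])) @x0 (@Eq.symm.{1} _ _ _ @x13)) (@Cfsg.Agent.KO4074f71.k19 @x0 (nat_lit 12))) @(fun x12 => @Eq.rec.{1, 1} ℕ (nat_lit 11) @(fun x13 x14 => @List.{0} ℕ) ((nat_lit 6) :: ((nat_lit 5) :: ((nat_lit 1) :: ((nat_lit 2) :: ((nat_lit 0) :: ((nat_lit 5) :: ((nat_lit 1) :: ((nat_lit 2) :: ((nat_lit 0) :: []))))))))) @x0 (@Eq.symm.{1} _ _ _ @x12)) (@Cfsg.Agent.KO4074f71.k19 @x0 (nat_lit 11))) @(fun x11 => @Eq.rec.{1, 1} ℕ (nat_lit 10) @(fun x12 x13 => @List.{0} ℕ) ((nat_lit 8) :: ((nat_lit 5) :: ((nat_lit 1) :: ((nat_lit 2) :: ((nat_lit 0) :: ((nat_lit 5) :: ((nat_lit 1) :: ((nat_lit 2) :: ((nat_lit 0) :: []))))))))) @x0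 (@Eq.symm.{1} _ _ _ @x11)) (@Cfsg.Agent.KO4074f71.k19 @x0 (nat_lit 10))) @(fun x10 => @Eq.rec.{1, 1} ℕ (nat_lit 9) @(fun x11 x12 => @List.{0} ℕ) ((nat_lit 5) :: []) @x0 (@Eq.symm.{1} _ _ _ @x10)) (@Cfsg.Agent.KO4074f71.k19 @x0 (nat_lit 9))) @(fun x9 => @Eq.rec.{1, 1} ℕ (nat_lit 8) @(fun x10 x11 => @List.{0} ℕ) ((nat_lit 2) :: ((nat_lit 0) :: ((nat_lit 5) :: ((nat_lit 1) :: ((nat_lit 2) :: ((nat_lit 0) :: ((nat_lit 5) :: ((nat_lit 1) :: ((nat_lit 2) :: ((nat_lit 0) :: [])))))))))) @x0 (@Eq.symm.{1} _ _ _ @x9)) (@Cfsg.Agent.KO4074f71.k19 @x0 (nat_lit 8))) @(fun x8 => @Eq.rec.{1, 1} ℕ (nat_lit 7) @(fun x9 x10 => @List.{0} ℕ) ((nat_lit 4) :: ((nat_lit 5) :: ((nat_lit 1) :: ((nat_lit 2) :: ((nat_lit 0) :: ((nat_lit 5) :: ((nat_lit 1) :: ((nat_lit 2) :: ((nat_lit 0) :: []))))))))) @x0 (@Eq.symm.{1} _ _ _ @x8)) (@Cfsg.Agent.KO4074f71.k19 @x0 (nat_lit 7))) @(fun x7 => @Eq.rec.{1, 1} ℕ (nat_lit 6) @(fun x8 x9 => @List.{0} ℕ)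 ((nat_lit 3) :: ((nat_lit 2) :: ((nat_lit 0) :: ((nat_lit 3) :: ((nat_lit 2) :: ((nat_lit 0) :: [])))))) @x0 (@Eq.symm.{1} _ _ _ @x7)) (@Cfsg.Agent.KO4074f71.k19 @x0 (nat_lit 6))) @(fun x6 => @Eq.rec.{1, 1} ℕ (nat_lit 5) @(fun x7 x8 => @List.{0} ℕ) ((nat_lit 3) :: ((nat_lit 4) :: ((nat_lit 3) :: ((nat_lit 4) :: [])))) @x0 (@Eq.symm.{1} _ _ _ @x6)) (@Cfsg.Agent.KO4074f71.k19 @x0 (nat_lit 5))) @(fun x5 => @Eq.rec.{1, 1} ℕ (nat_lit 4) @(fun x6 x7 => @List.{0} ℕ) ((nat_lit 3) :: ((nat_lit 5) :: ((nat_lit 1) :: ((nat_lit 2) :: ((nat_lit 0) :: ((nat_lit 5) :: ((nat_lit 1) :: ((nat_lit 2) :: ((nat_lit 0) :: []))))))))) @x0 (@Eq.symm.{1} _ _ _ @x5)) (@Cfsg.Agent.KO4074f71.k19 @x0 (nat_lit 4))) @(fun x4 => @Eq.rec.{1, 1} ℕ (nat_lit 3) @(fun x5 x6 => @List.{0} ℕ) ((nat_lit 5) :: ((nat_lit 1) :: ((nat_lit 2) :: ((nat_lit 0) :: ((nat_lit 5) :: ((nat_lit 1) :: ((nat_lit 2) :: ((nat_lit 0) :: [])))))))) @x0 (@Eq.symm.{1} _ _ _ @x4))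 (@Cfsg.Agent.KO4074f71.k19 @x0 (nat_lit 3))) @(fun x3 => @Eq.rec.{1, 1} ℕ (nat_lit 2) @(fun x4 x5 => @List.{0} ℕ) ((nat_lit 5) :: ((nat_lit 1) :: ((nat_lit 4) :: ((nat_lit 5) :: ((nat_lit 1) :: ((nat_lit 4) :: [])))))) @x0 (@Eq.symm.{1} _ _ _ @x3)) (@Cfsg.Agent.KO4074f71.k19 @x0 (nat_lit 2))) @(fun x2 => @Eq.rec.{1, 1} ℕ (nat_lit 1) @(fun x3 x4 => @List.{0} ℕ) ((nat_lit 5) :: ((nat_lit 1) :: ((nat_lit 5) :: ((nat_lit 1) :: ((nat_lit 2) :: ((nat_lit 0) :: ((nat_lit 5) :: ((nat_lit 1) :: ((nat_lit 2) :: ((nat_lit 0) :: [])))))))))) @x0 (@Eq.symm.{1} _ _ _ @x2)) (@Cfsg.Agent.KO4074f71.k19 @x0 (nat_lit 1))) @(fun x1 => @Eq.rec.{1, 1} ℕ (nat_lit 0) @(fun x2 x3 => @List.{0} ℕ) ((nat_lit 2) :: []) @x0 (@Eq.symm.{1} _ _ _ @x1)) (@Cfsg.Agent.KO4074f71.k19 @x0 (nat_lit 0)))) ?_); rewrite [← Cfsg.Agent.KO4074f71.e19]; rfl') | exact @Cfsg.Agent.KFacts.He.Words.w16 | exact ()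
private theorem _root_.Cfsg.Agent.KO4074f71.e39 : (by first | exact @Cfsg.Agent.KFacts.He.Words.w16 = @_root_.Cfsg.Agent.KO4074f71.k39 | exact True : Prop) := by first | (delta _root_.Cfsg.Agent.KO4074f71.k39; exact @Subtype.property _ (fun g => @Cfsg.Agent.KFacts.He.Words.w16 = @g) _) | rfl | trivial
private noncomputable def _root_.Cfsg.Agent.KO4074f71.k40 : (by first | exact type_of% @Cfsg.Agent.KFacts.He.Words.eqW | exact Unit : Sort _) := by first | (refine @Subtype.val _ (fun g => @Cfsg.Agent.KFacts.He.Words.eqW = @g) (@Subtype.mk _ _ (@(fun x0 x1 => @Bool.rec.{1} @(fun x2 => @Bool) @Bool.false (@Bool.rec.{1} @(fun x2 => @Bool) @Bool.false (@Bool.rec.{1} @(fun x2 => @Bool) @Bool.false (@Nat.beq (@Cfsg.Agent.KO4074f71.k34 (@Cfsg.Agent.KO4074f71.k35.{0} _ (@Cfsg.Agent.KO4074f71.k37.{0} _ (@Cfsg.Agent.KO4074f71.k38.{0, 0} _ _ @Cfsg.Agent.KO4074f71.k39 @x0)) []) (nat_lit 8)) (@Cfsg.Agent.KO4074f71.k34 (@Cfsg.Agent.KO4074f71.k35.{0}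 _ (@Cfsg.Agent.KO4074f71.k37.{0} _ (@Cfsg.Agent.KO4074f71.k38.{0, 0} _ _ @Cfsg.Agent.KO4074f71.k39 @x1)) []) (nat_lit 8))) (@Nat.beq (@Cfsg.Agent.KO4074f71.k34 (@Cfsg.Agent.KO4074f71.k35.{0} _ (@Cfsg.Agent.KO4074f71.k37.{0} _ (@Cfsg.Agent.KO4074f71.k38.{0, 0} _ _ @Cfsg.Agent.KO4074f71.k39 @x0)) []) (nat_lit 32)) (@Cfsg.Agent.KO4074f71.k34 (@Cfsg.Agent.KO4074f71.k35.{0} _ (@Cfsg.Agent.KO4074f71.k37.{0} _ (@Cfsg.Agent.KO4074f71.k38.{0, 0} _ _ @Cfsg.Agent.KO4074f71.k39 @x1)) []) (nat_lit 32)))) (@Nat.beq (@Cfsg.Agent.KO4074f71.k34 (@Cfsg.Agent.KO4074f71.k35.{0} _ (@Cfsg.Agent.KO4074f71.k37.{0} _ (@Cfsg.Agent.KO4074f71.k38.{0, 0} _ _ @Cfsg.Agent.KO4074f71.k39 @x0)) []) (nat_lit 1)) (@Cfsg.Agent.KO4074f71.k34 (@Cfsg.Agent.KO4074f71.k35.{0} _ (@Cfsg.Agent.KO4074f71.k37.{0} _ (@Cfsg.Agent.KO4074f71.k38.{0, 0} _ _ @Cfsg.Agent.KO4074f71.k39 @x1)) []) (nat_lit 1)))) (@Nat.beq (@Cfsg.Agent.KO4074f71.k34 (@Cfsg.Agent.KO4074f71.k35.{0}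 _ (@Cfsg.Agent.KO4074f71.k37.{0} _ (@Cfsg.Agent.KO4074f71.k38.{0, 0} _ _ @Cfsg.Agent.KO4074f71.k39 @x0)) []) (nat_lit 0)) (@Cfsg.Agent.KO4074f71.k34 (@Cfsg.Agent.KO4074f71.k35.{0} _ (@Cfsg.Agent.KO4074f71.k37.{0} _ (@Cfsg.Agent.KO4074f71.k38.{0, 0} _ _ @Cfsg.Agent.KO4074f71.k39 @x1)) []) (nat_lit 0))))) ?_); rewrite [← Cfsg.Agent.KO4074f71.e39, ← Cfsg.Agent.KO4074f71.e38.{0, 0}, ← Cfsg.Agent.KO4074f71.e37.{0}, ← Cfsg.Agent.KO4074f71.e35.{0}, ← Cfsg.Agent.KO4074f71.e34]; (try delta Cfsg.Agent.KFacts.He.Words.eqW Cfsg.Agent.KFacts.He.Words.im Cfsg.Agent.KFacts.He.Words.ex); (try generalize @Cfsg.Agent.HeldHe.Model.walk = g0); (try generalize @Cfsg.Agent.KFacts.He.Words.w16 = g1); rfl') | exact @Cfsg.Agent.KFacts.He.Words.eqW | exact ()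
private theorem _root_.Cfsg.Agent.KO4074f71.e40 : (by first | exact @Cfsg.Agent.KFacts.He.Words.eqW = @_root_.Cfsg.Agent.KO4074f71.k40 | exact True : Prop) := by first | (delta _root_.Cfsg.Agent.KO4074f71.k40; exact @Subtype.property _ (fun g => @Cfsg.Agent.KFacts.He.Words.eqW = @g) _) | rfl | trivial
private noncomputable def _root_.Cfsg.Agent.KO4074f71.k42.{ku0} : type_of% @List.get?Internal.{ku0} := @(fun x0 x1 x2 => @List.rec.{(ku0+1), ku0} @x0 @(fun x3 => ℕ → @Option.{ku0} @x0) @(fun x3 => @Option.none.{ku0} _) @(fun x3 x4 x5 x6 => @Nat.rec.{(ku0+1)} @(fun x7 => @Option.{ku0} @x0) (@Option.some.{ku0} _ @x3) @(fun x7 x8 => @x5 @x7) @x6) @x1 @x2)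
private theorem _root_.Cfsg.Agent.KO4074f71.e42.{ku0} : @List.get?Internal.{ku0} = @_root_.Cfsg.Agent.KO4074f71.k42.{ku0} := by delta _root_.Cfsg.Agent.KO4074f71.k42; funext a0 a1 a2; refine (congrFun (_root_.Cfsg.Agent.KO4074f71.e3 (fun a1 a2 => @List.get?Internal.{ku0} a0 a1 a2) ?_ (fun c0 c1 => ?_) a1) a2 :) <;> [(funext b0; (rfl')); (funext b0; (cases b0 with | @zero  => (rfl') | @succ b0_0 => (rfl')))]
private noncomputable def _root_.Cfsg.Agent.KO4074f71.k43 : type_of% @Int.natAbs := @(fun x0 => @Int.rec.{1} @(fun x1 => ℕ) @(fun x1 => @x1) @(fun x1 => @Nat.succ @x1) @x0)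
private theorem _root_.Cfsg.Agent.KO4074f71.e43 : @Int.natAbs = @_root_.Cfsg.Agent.KO4074f71.k43 := by delta _root_.Cfsg.Agent.KO4074f71.k43; rfl'
private noncomputable def _root_.Cfsg.Agent.KO4074f71.k44 : (by first | exact type_of% @Cfsg.Agent.H6.HeFrames.idx | exact Unit : Sort _) := by first | (refine @Subtype.val _ (fun g => @Cfsg.Agent.H6.HeFrames.idx = @g) (@Subtype.mk _ _ (@(fun x0 => @Nat.add (@Nat.add (@Nat.add (@Nat.add (@Nat.add (@Nat.rec.{1} @(fun x1 => (@ZMod @x1) → ℕ) @Cfsg.Agent.KO4074f71.k43 @(fun x1 x2 => @Fin.val _) (nat_lit 2) (@Prod.fst.{0, 0} _ _ (@Prod.fst.{0, 0} _ _ @x0))) (@Nat.mul (nat_lit 2) (@Nat.rec.{1} @(fun x1 => (@ZMod @x1) → ℕ) @Cfsg.Agent.KO4074f71.k43 @(fun x1 x2 => @Fin.val _) (nat_lit 2) (@Prod.snd.{0, 0} _ _ (@Prod.fst.{0, 0} _ _ @x0))))) (@Nat.mul (nat_lit 4) (@Nat.rec.{1} @(fun x1 => (@ZMod @x1) → ℕ) @Cfsg.Agent.KO4074f71.k43 @(fun x1 x2 => @Fin.val _) (nat_lit 2) (@Prod.fst.{0,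 0} _ _ (@Prod.fst.{0, 0} _ _ (@Prod.snd.{0, 0} _ _ @x0)))))) (@Nat.mul (nat_lit 8) (@Nat.rec.{1} @(fun x1 => (@ZMod @x1) → ℕ) @Cfsg.Agent.KO4074f71.k43 @(fun x1 x2 => @Fin.val _) (nat_lit 2) (@Prod.snd.{0, 0} _ _ (@Prod.fst.{0, 0} _ _ (@Prod.snd.{0, 0} _ _ @x0)))))) (@Nat.mul (nat_lit 16) (@Nat.rec.{1} @(fun x1 => (@ZMod @x1) → ℕ) @Cfsg.Agent.KO4074f71.k43 @(fun x1 x2 => @Fin.val _) (nat_lit 2) (@Prod.fst.{0, 0} _ _ (@Prod.snd.{0, 0} _ _ (@Prod.snd.{0, 0} _ _ @x0)))))) (@Nat.mul (nat_lit 32) (@Nat.rec.{1} @(fun x1 => (@ZMod @x1) → ℕ) @Cfsg.Agent.KO4074f71.k43 @(fun x1 x2 => @Fin.val _) (nat_lit 2) (@Prod.snd.{0, 0} _ _ (@Prod.snd.{0, 0} _ _ (@Prod.snd.{0, 0} _ _ @x0))))))) ?_); rewrite [← Cfsg.Agent.KO4074f71.e43]; rfl') | exact @Cfsg.Agent.H6.HeFrames.idx | exact ()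
private theorem _root_.Cfsg.Agent.KO4074f71.e44 : (by first | exact @Cfsg.Agent.H6.HeFrames.idx = @_root_.Cfsg.Agent.KO4074f71.k44 | exact True : Prop) := by first | (delta _root_.Cfsg.Agent.KO4074f71.k44; exact @Subtype.property _ (fun g => @Cfsg.Agent.H6.HeFrames.idx = @g) _) | rfl | trivial
private noncomputable def _root_.Cfsg.Agent.KO4074f71.k45 : (by first | exact type_of% @Cfsg.Agent.H6.HeFrames.CA | exact Unit : Sort _) := by first | (refine @Subtype.val _ (fun g => @Cfsg.Agent.H6.HeFrames.CA = @g) (@Subtype.mk _ _ (@(fun x0 => @Option.rec.{1, 0} (@List.{0} ℕ) @(fun x1 => @List.{0} ℕ) [] @(fun x1 => @x1) (@Cfsg.Agent.KO4074f71.k42.{0} _ @Cfsg.Agent.H6.HeFrames.lA (@Cfsg.Agent.KO4074f71.k44 @x0)))) ?_); rewrite [← Cfsg.Agent.KO4074f71.e44, ← Cfsg.Agent.KO4074f71.e42.{0}]; (try delta Cfsg.Agent.H6.HeFrames.CA); (try generalize @Cfsg.Agent.H6.HeFrames.lA = g0); (try generalize @Cfsg.Agent.H6.HeFrames.idx = g1);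 rfl') | exact @Cfsg.Agent.H6.HeFrames.CA | exact ()
private theorem _root_.Cfsg.Agent.KO4074f71.e45 : (by first | exact @Cfsg.Agent.H6.HeFrames.CA = @_root_.Cfsg.Agent.KO4074f71.k45 | exact True : Prop) := by first | (delta _root_.Cfsg.Agent.KO4074f71.k45; exact @Subtype.property _ (fun g => @Cfsg.Agent.H6.HeFrames.CA = @g) _) | rfl | trivial
private noncomputable def _root_.Cfsg.Agent.KO4074f71.oB.{ku} (α : Sort ku) (c : Bool) (f t : α) : α := @Decidable.rec (c = true) (fun _ => α) (fun _ => f) (fun _ => t) (instDecidableEqBool c true)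
private noncomputable def _root_.Cfsg.Agent.KO4074f71.k46.{ku} (α : Sort ku) (c : Bool) (f t : α) : α := @Bool.rec (fun _ => α) f t c
private theorem _root_.Cfsg.Agent.KO4074f71.e46.{ku} : @_root_.Cfsg.Agent.KO4074f71.oB.{ku} = @_root_.Cfsg.Agent.KO4074f71.k46.{ku} := funext fun α => funext fun c => funext fun f => funext fun t => by cases c <;> rfl
private noncomputable def _root_.Cfsg.Agent.KO4074f71.k47 : (by first | exact type_of% @Cfsg.Agent.H6.HeWords.bas | exact Unit : Sort _) := by first | (refine @Subtype.val _ (fun g => @Cfsg.Agent.H6.HeWords.bas = @g) (@Subtype.mk _ _ (@(fun x0 => @Cfsg.Agent.KO4074f71.k46.{1} (@List.{0} ℕ) (@Option.rec.{1, 0} (@Fin ((6 : ℕ))) @(fun x1 => @Bool) @Bool.false @(fun x1 => @Bool.true) (@Cfsg.Agent.H6.HexW.cls @x0)) ((nat_lit 3) :: []) ((nat_lit 0) :: ((nat_lit 8) :: [])))) ?_); rewrite [← Cfsg.Agent.KO4074f71.e46.{1}]; (try delta Cfsg.Agent.H6.HeWords.bas); (try generalize @Cfsg.Agent.H6.HexW.cls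 = g0); rfl') | exact @Cfsg.Agent.H6.HeWords.bas | exact ()
private theorem _root_.Cfsg.Agent.KO4074f71.e47 : (by first | exact @Cfsg.Agent.H6.HeWords.bas = @_root_.Cfsg.Agent.KO4074f71.k47 | exact True : Prop) := by first | (delta _root_.Cfsg.Agent.KO4074f71.k47; exact @Subtype.property _ (fun g => @Cfsg.Agent.H6.HeWords.bas = @g) _) | rfl | trivial
private theorem _root_.Cfsg.Agent.KO4074f71.e49.{ku} {M : Nat → Sort ku} (φ : ∀ n, M n) {z : M Nat.zero} {s : ∀ n, M n → M (Nat.succ n)} (h0 : φ Nat.zero = z) (hs : ∀ n, φ (Nat.succ n) = s n (φ n)) (n : Nat) : φ n = @Nat.rec M z s n := Nat.rec h0 (fun n ih => (hs n).trans (congrArg (s n) ih)) n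
private noncomputable def _root_.Cfsg.Agent.KO4074f71.k50.{ku0} : type_of% @Fin.induction.go.{ku0} := @(fun x0 x1 x2 x3 x4 x5 => @Nat.rec.{ku0} @(fun x6 => (x7 : @LT.lt.{0} _ _ @x6 (@HAdd.hAdd.{0, 0, 0} _ _ _ _ @x0 ((1 : ℕ)))) → @x1 (@Fin.mk _ @x6 @x7)) @(fun x6 => @Eq.rec.{ku0, (ku0+1)} (Sort ku0) (@x1 (@OfNat.ofNat.{0} _ (nat_lit 0) _)) @(fun x7 x8 => @x7) @x2 (@x1 (@Fin.mk _ ((0 : ℕ)) @x6)) (@Eq.symm.{(ku0+1)} _ _ _ (@Fin.induction.go._proof_1.{ku0} _ _ @x6))) @(fun x6 x7 x8 => @x3 (@Fin.mk _ @x6 (@Nat.lt_of_succ_lt_succ _ _ @x8)) (@x7 (@Fin.induction.go._proof_2 _ @x6 @x8))) @x4 @x5)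
private theorem _root_.Cfsg.Agent.KO4074f71.e50.{ku0} : @Fin.induction.go.{ku0} = @_root_.Cfsg.Agent.KO4074f71.k50.{ku0} := by delta _root_.Cfsg.Agent.KO4074f71.k50; funext a0 a1 a2 a3 a4 a5; refine (congrFun (_root_.Cfsg.Agent.KO4074f71.e49 (fun a4 a5 => @Fin.induction.go.{ku0} a0 a1 a2 a3 a4 a5) ?_ (fun c0 => ?_) a4) a5 :) <;> (rfl')
private noncomputable def _root_.Cfsg.Agent.KO4074f71.k51.{ku0} : type_of% @Fin.induction.{ku0} := @(fun x0 x1 x2 x3 x4 => @Fin.rec.{ku0} (@Nat.add @x0 (nat_lit 1)) @(fun x5 => @x1 @x5) @(fun x5 x6 => @Cfsg.Agent.KO4074f71.k50.{ku0} _ _ @x2 @x3 @x5 @x6) @x4)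
private theorem _root_.Cfsg.Agent.KO4074f71.e51.{ku0} : @Fin.induction.{ku0} = @_root_.Cfsg.Agent.KO4074f71.k51.{ku0} := by delta _root_.Cfsg.Agent.KO4074f71.k51; rewrite [← Cfsg.Agent.KO4074f71.e50.{ku0}]; rfl'
private noncomputable def _root_.Cfsg.Agent.KO4074f71.k52.{ku0} : type_of% @Fin.cases.{ku0} := @(fun x0 x1 x2 x3 x4 => @Cfsg.Agent.KO4074f71.k51.{ku0} _ @(fun x5 => @x1 @x5) @x2 @(fun x5 x6 => @x3 @x5) @x4)
private theorem _root_.Cfsg.Agent.KO4074f71.e52.{ku0} : @Fin.cases.{ku0} = @_root_.Cfsg.Agent.KO4074f71.k52.{ku0} := by delta _root_.Cfsg.Agent.KO4074f71.k52; rewrite [← Cfsg.Agent.KO4074f71.e51.{ku0}]; rfl'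
private noncomputable def _root_.Cfsg.Agent.KO4074f71.k53.{ku0} : type_of% @Fin.cons.{ku0} := @(fun x0 x1 x2 x3 x4 => @Cfsg.Agent.KO4074f71.k52.{ku0} _ @(fun x5 => @x1 @x5) @x2 @x3 @x4)
private theorem _root_.Cfsg.Agent.KO4074f71.e53.{ku0} : @Fin.cons.{ku0} = @_root_.Cfsg.Agent.KO4074f71.k53.{ku0} := by delta _root_.Cfsg.Agent.KO4074f71.k53; rewrite [← Cfsg.Agent.KO4074f71.e52.{ku0}]; rfl'
private noncomputable def _root_.Cfsg.Agent.KO4074f71.k54.{ku0} : type_of% @Fin.elim0.{ku0} := @(fun x0 x1 => @Fin.rec.{ku0} (nat_lit 0) @(fun x2 => @x0) @(fun x2 x3 => @False.rec.{ku0} @(fun x4 => @x0) (@Nat.not_lt_zero @x2 @x3)) @x1)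
private theorem _root_.Cfsg.Agent.KO4074f71.e54.{ku0} : @Fin.elim0.{ku0} = @_root_.Cfsg.Agent.KO4074f71.k54.{ku0} := by delta _root_.Cfsg.Agent.KO4074f71.k54; rfl'
private noncomputable def _root_.Cfsg.Agent.KO4074f71.k55 : (by first | exact type_of% @Cfsg.Agent.H6.HeFrames.bA | exact Unit : Sort _) := by first | (refine @Subtype.val _ (fun g => @Cfsg.Agent.H6.HeFrames.bA = @g) (@Subtype.mk _ _ (@Cfsg.Agent.KO4074f71.k53.{1} _ @(fun x0 => @List.{0} ℕ) ((nat_lit 3) :: ((nat_lit 5) :: [])) (@Cfsg.Agent.KO4074f71.k53.{1} _ @(fun x0 => @List.{0} ℕ) ((nat_lit 2) :: ((nat_lit 3) :: ((nat_lit 6) :: []))) (@Cfsg.Agent.KO4074f71.k53.{1} _ @(fun x0 => @List.{0} ℕ) ((nat_lit 2) :: ((nat_lit 3) :: ((nat_lit 5) :: []))) (@Cfsg.Agent.KO4074f71.k53.{1} _ @(fun x0 => @List.{0} ℕ) ((nat_lit 2) :: ((nat_lit 6) :: [])) (@Cfsg.Agent.KO4074f71.k53.{1} _ @(fun x0 => @List.{0} ℕ) ((nat_lit 3) :: ((nat_lit 7) :: [])) (@Cfsg.Agent.KO4074f71.k53.{1}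 _ @(fun x0 => @List.{0} ℕ) ((nat_lit 2) :: ((nat_lit 3) :: ((nat_lit 8) :: []))) (@Cfsg.Agent.KO4074f71.k54.{1} _))))))) ?_); rewrite [← Cfsg.Agent.KO4074f71.e54.{1}, ← Cfsg.Agent.KO4074f71.e53.{1}]; rfl') | exact @Cfsg.Agent.H6.HeFrames.bA | exact ()
private theorem _root_.Cfsg.Agent.KO4074f71.e55 : (by first | exact @Cfsg.Agent.H6.HeFrames.bA = @_root_.Cfsg.Agent.KO4074f71.k55 | exact True : Prop) := by first | (delta _root_.Cfsg.Agent.KO4074f71.k55; exact @Subtype.property _ (fun g => @Cfsg.Agent.H6.HeFrames.bA = @g) _) | rfl | trivial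

theorem certA : ∀ v : W, v = 0 ∨ eqW (CA v ++ bas v) (wv bA v ++ CA v) = true := by (first | (refine of_decide_eq_true ?_; rewrite [Cfsg.Agent.KO4074f71.e0, Cfsg.Agent.KO4074f71.e11.{0}, Cfsg.Agent.KO4074f71.e21, Cfsg.Agent.KO4074f71.e22.{0, 0}, Cfsg.Agent.KO4074f71.e24, Cfsg.Agent.KO4074f71.e14, Cfsg.Agent.KO4074f71.e40, Cfsg.Agent.KO4074f71.e45, Cfsg.Agent.KO4074f71.e47, Cfsg.Agent.KO4074f71.e55]; decide +kernel) | decide +kernel)

/-! ### V1 -/

def bB : Fin 6 → List ℕ := ![[1, 4, 6], [1, 3, 6], [1, 3, 4], [1, 6], [2, 5, 6], [2, 3, 6]]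

def lB : List (List ℕ) := [[], [15, 0, 10, 4], [0, 10, 4], [14, 0, 10, 4], [15, 10, 4], [15], [14, 7, 11, 13], [7, 11, 12], [10, 4], [14, 7, 11, 12], [], [15, 7, 11, 13], [14, 10, 4], [7, 11, 13], [15, 7, 11, 12], [14], [13, 11, 12, 10, 4], [15, 11, 12], [13, 11, 12], [14, 12, 11, 12], [15, 11, 13], [12, 11, 7, 10, 4], [14, 13, 11, 13], [12, 11, 13], [13, 7, 11, 12], [11, 12, 11, 13], [15, 13], [15, 7, 10, 4], [11, 13, 11, 12], [12, 7, 11, 12], [15, 12, 10, 4], [15, 12], [11, 12, 10, 4], [15, 12, 11, 12], [11, 12], [14, 13, 11, 12], [15, 8, 12, 11, 12], [12], [14, 12, 7, 11, 12], [12, 10, 4], [11, 13], [14, 12, 11, 13], [11, 7, 10, 4], [15, 13, 11, 13], [14, 13, 7, 11, 12], [7, 10, 4], [15, 0, 13, 11, 12], [13], [12, 11, 12, 10, 4], [15, 13, 11, 12], [12, 11, 12], [14, 11, 12], [11, 13, 11, 13], [14, 13], [14, 7, 10, 4], [0, 13, 11, 12], [8, 12, 11, 12], [14, 12, 10, 4], [14, 12], [11, 12, 11, 12], [14, 11, 13], [13,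 11, 13], [15, 12, 11, 13], [13, 11, 7, 10, 4]]

def CB (v : W) : List ℕ := lB.getD (idx v) []

def I6B : Fin 6 → W := ![((0, 0), (1, 1), (0, 0)), ((0, 0), (0, 1), (0, 0)), ((0, 1), (1, 0), (1, 1)), ((1, 0), (1, 1), (0, 1)), ((1, 0), (0, 1), (1, 1)), ((1, 1), (1, 0), (0, 1))]
def I2B : Fin 6 → W := ![((0, 0), (1, 1), (0, 0)), ((0, 0), (0, 1), (0, 0)), ((1, 1), (0, 0), (0, 0)), ((0, 1), (0, 0), (0, 0)), ((0, 0), (0, 0), (1, 1)), ((0, 0), (0, 0), (0, 1))]
def J6B : Fin 6 → W := ![((0, 0), (1, 1), (0, 0)), ((0, 1), (1, 0), (1, 1)), ((1, 0), (0, 1), (1, 1)), ((1, 1), (0, 0), (0, 0)), ((1, 1), (1, 1), (1, 1)), ((0, 0), (0, 0), (1, 1))]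
def J2B : Fin 6 → W := ![((0, 0), (1, 1), (0, 0)), ((1, 1), (0, 0), (0, 0)), ((0, 0), (0, 0), (1, 1)), ((1, 1), (1, 1), (1, 1)), ((0, 1), (1, 1), (1, 0)), ((1, 0), (1, 1), (0, 1))]

def sB : Equiv.Perm (Fin 6) where
  toFun := ![1, 5, 4, 0, 3, 2]
  invFun := ![3, 0, 5, 4, 2, 1]
  left_inv := by decide
  right_inv := by decide

private noncomputable def _root_.Cfsg.Agent.KO4074f71.k56 : (by first | exact type_of% @Cfsg.Agent.H6.HeFrames.CB | exact Unit : Sort _) := by first | (refine @Subtype.val _ (fun g => @Cfsg.Agent.H6.HeFrames.CB = @g) (@Subtype.mk _ _ (@(fun x0 => @Option.rec.{1, 0} (@List.{0} ℕ) @(fun x1 => @List.{0} ℕ) [] @(fun x1 => @x1) (@Cfsg.Agent.KO4074f71.k42.{0} _ @Cfsg.Agent.H6.HeFrames.lB (@Cfsg.Agent.KO4074f71.k44 @x0)))) ?_); rewrite [← Cfsg.Agent.KO4074f71.e44, ← Cfsg.Agent.KO4074f71.e42.{0}]; (try delta Cfsg.Agent.H6.HeFrames.CB); (try generalize @Cfsg.Agent.H6.HeFrames.lB = g0); (try generalize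 @Cfsg.Agent.H6.HeFrames.idx = g1); rfl') | exact @Cfsg.Agent.H6.HeFrames.CB | exact ()
private theorem _root_.Cfsg.Agent.KO4074f71.e56 : (by first | exact @Cfsg.Agent.H6.HeFrames.CB = @_root_.Cfsg.Agent.KO4074f71.k56 | exact True : Prop) := by first | (delta _root_.Cfsg.Agent.KO4074f71.k56; exact @Subtype.property _ (fun g => @Cfsg.Agent.H6.HeFrames.CB = @g) _) | rfl | trivial
private noncomputable def _root_.Cfsg.Agent.KO4074f71.k57 : (by first | exact type_of% @Cfsg.Agent.H6.HeFrames.bB | exact Unit : Sort _) := by first | (refine @Subtype.val _ (fun g => @Cfsg.Agent.H6.HeFrames.bB = @g) (@Subtype.mk _ _ (@Cfsg.Agent.KO4074f71.k53.{1} _ @(fun x0 => @List.{0} ℕ) ((nat_lit 1) :: ((nat_lit 4) :: ((nat_lit 6) :: []))) (@Cfsg.Agent.KO4074f71.k53.{1} _ @(fun x0 => @List.{0} ℕ) ((nat_lit 1) :: ((nat_lit 3) :: ((nat_lit 6) :: []))) (@Cfsg.Agent.KO4074f71.k53.{1} _ @(fun x0 => @List.{0} ℕ) ((nat_lit 1) :: ((nat_lit 3) :: ((nat_lit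 4) :: []))) (@Cfsg.Agent.KO4074f71.k53.{1} _ @(fun x0 => @List.{0} ℕ) ((nat_lit 1) :: ((nat_lit 6) :: [])) (@Cfsg.Agent.KO4074f71.k53.{1} _ @(fun x0 => @List.{0} ℕ) ((nat_lit 2) :: ((nat_lit 5) :: ((nat_lit 6) :: []))) (@Cfsg.Agent.KO4074f71.k53.{1} _ @(fun x0 => @List.{0} ℕ) ((nat_lit 2) :: ((nat_lit 3) :: ((nat_lit 6) :: []))) (@Cfsg.Agent.KO4074f71.k54.{1} _))))))) ?_); rewrite [← Cfsg.Agent.KO4074f71.e54.{1}, ← Cfsg.Agent.KO4074f71.e53.{1}]; rfl') | exact @Cfsg.Agent.H6.HeFrames.bB | exact ()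
private theorem _root_.Cfsg.Agent.KO4074f71.e57 : (by first | exact @Cfsg.Agent.H6.HeFrames.bB = @_root_.Cfsg.Agent.KO4074f71.k57 | exact True : Prop) := by first | (delta _root_.Cfsg.Agent.KO4074f71.k57; exact @Subtype.property _ (fun g => @Cfsg.Agent.H6.HeFrames.bB = @g) _) | rfl | trivial

theorem certB : ∀ v : W, v = 0 ∨ eqW (CB v ++ bas v) (wv bB v ++ CB v) = true := by (first | (refine of_decide_eq_true ?_; rewrite [Cfsg.Agent.KO4074f71.e0, Cfsg.Agent.KO4074f71.e11.{0}, Cfsg.Agent.KO4074f71.e21, Cfsg.Agent.KO4074f71.e22.{0, 0}, Cfsg.Agent.KO4074f71.e24, Cfsg.Agent.KO4074f71.e14, Cfsg.Agent.KO4074f71.e40, Cfsg.Agent.KO4074f71.e56, Cfsg.Agent.KO4074f71.e47, Cfsg.Agent.KO4074f71.e57]; decide +kernel) | decide +kernel)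

/-! ### The frames -/

theorem isCycle_of {σ : Equiv.Perm (Fin 6)} (h : ∀ y, ∃ n : Fin 6, (σ ^ (n : ℕ)) 0 = y) (h0 : σ 0 ≠ 0) : σ.IsCycle := by
  refine ⟨0, h0, fun y _ => ?_⟩
  obtain ⟨n, hn⟩ := h y
  exact ⟨(n : ℕ), by rw [zpow_natCast]; exact hn⟩

theorem mem_A (i : Fin 6) : E (bA i) ∈ img iota V2 := by
  have key : ∀ n ∈ ([2, 3, 5, 6, 7, 8] : List ℕ), n < 12 ∧ ((gx xC n : CC) : L5) ∈ V2 := by
    intro n hn
    simp only [List.mem_cons, List.not_mem_nil, or_false] at hn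
    rcases hn with rfl | rfl | rfl | rfl | rfl | rfl
    · exact ⟨by norm_num, by rw [c2, mem_V2_iff, cdx]; decide +kernel⟩
    · exact ⟨by norm_num, by rw [c3, mem_V2_iff, cdx]; decide +kernel⟩
    · exact ⟨by norm_num, by rw [c5, mem_V2_iff, cdx]; decide +kernel⟩
    · exact ⟨by norm_num, by rw [c6, mem_V2_iff, cdx]; decide +kernel⟩
    · exact ⟨by norm_num, by rw [c7, mem_V2_iff, cdx]; decide +kernel⟩
    · exact ⟨by norm_num, by rw [c8, mem_V2_iff, cdx]; decide +kernel⟩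
  have h2 : ∀ i, ∀ n ∈ bA i, n ∈ ([2, 3, 5, 6, 7, 8] : List ℕ) := by decide
  exact E_mem _ _ fun n hn => key n (h2 i n hn)

theorem mem_B (i : Fin 6) : E (bB i) ∈ img iota V1 := by
  have key : ∀ n ∈ ([1, 2, 3, 4, 5, 6] : List ℕ), n < 12 ∧ ((gx xC n : CC) : L5) ∈ V1 := by
    intro n hn
    simp only [List.mem_cons, List.not_mem_nil, or_false] at hn
    rcases hn with rfl | rfl | rfl | rfl | rfl | rfl
    · exact ⟨by norm_num, by rw [c1, mem_V1_iff, cdx]; decide +kernel⟩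
    · exact ⟨by norm_num, by rw [c2, mem_V1_iff, cdx]; decide +kernel⟩
    · exact ⟨by norm_num, by rw [c3, mem_V1_iff, cdx]; decide +kernel⟩
    · exact ⟨by norm_num, by rw [c4, mem_V1_iff, cdx]; decide +kernel⟩
    · exact ⟨by norm_num, by rw [c5, mem_V1_iff, cdx]; decide +kernel⟩
    · exact ⟨by norm_num, by rw [c6, mem_V1_iff, cdx]; decide +kernel⟩
  have h2 : ∀ i, ∀ n ∈ bB i, n ∈ ([1, 2, 3, 4, 5, 6] : List ℕ) := by decide
  exact E_mem _ _ fun n hn => key n (h2 i n hn)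

/-- **The frame on `V2`** -/
theorem frame2 : Frame z (img iota V2) (fun v => E (wv bA v)) sA (E [4, 10, 9]) (E [10, 14, 10, 9, 1]) :=
  mk (b := bA) (C := CA) (I6 := I6A) (I2 := I2A) (J6 := J6A) (J2 := J2A) (by decide +kernel) (by decide +kernel) certA
    (by rw [card_img hyp V2_le_CC, card_V2]) mem_A (cen_img (by rw [zz, mem_V2_iff, cdx]; decide +kernel) (fun _ => cen_V2) V2_le_CC)
    (isCycle_of (by decide) (by decide)) (by decide) (by decide +kernel) (by decide +kernel) (by decide +kernel)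
    (by decide +kernel) (by decide +kernel) (by decide +kernel)

/-- **The frame on `V1`** -/
theorem frame1 : Frame z (img iota V1) (fun v => E (wv bB v)) sB (E [0, 12, 11]) (E [9, 0]) :=
  mk (b := bB) (C := CB) (I6 := I6B) (I2 := I2B) (J6 := J6B) (J2 := J2B) (by decide +kernel) (by decide +kernel) certB
    (by rw [card_img hyp V1_le_CC, card_V1]) mem_B (cen_img (by rw [zz, mem_V1_iff, cdx]; decide +kernel) (fun _ => cen_V1) V1_le_CC)
    (isCycle_of (by decide) (by decide)) (by decide) (by decide +kernel) (by decide +kernel) (by decide +kernel)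
    (by decide +kernel) (by decide +kernel) (by decide +kernel)

end Cfsg.Agent.H6.HeFrames
end

-- part: H6/He/Row
section
/-!
# The row of the Held group (helper6)

* `RowD P G`: for every Sylow 2-subgroup `T` of `G` and `L ∈ ℒ(G, T)`: `L ⊔ T ≤ N(L)` and `P (L / O₂(L))`;
  `RowD.congr`, `RowD.of_one`;
* `row_he (h : Spor.IsoHe G) : RowD HeQ G`, `HeQ X : X ≃ L₃(2)` or `X` is `Â₆`.
-/

set_option autoImplicit false

namespace Cfsg.Agent.H6.HeRow

open Subgroup Cfsg Cfsg.Agent.SporadicRecognition.HeldModel Cfsg.Agent.H6.HeOver Cfsg.Agent.KFacts.He.Hyp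
  Cfsg.Agent.H6.HexW

universe u v

/-- for every Sylow 2-subgroup `T` of `G` and `L ∈ ℒ(G, T)`: `L ⊔ T ≤ N(L)` and `P (L / O₂(L))` -/
def RowD (P : ∀ (X : Type u) [Group X], Prop) (G : Type u) [Group G] : Prop :=
  ∀ (S : Sylow 2 G), ∀ L ∈ calL (S : Subgroup G), L ⊔ (S : Subgroup G) ≤ normalizer (L : Set G) ∧ P (L ⧸ Cfsg.pCore 2 L)

/-- transport of the normalizer condition -/
theorem norm_map {G : Type u} {K : Type v} [Group G] [Group K] (e : G ≃* K) {L S : Subgroup G}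
    (h : (L.map e.toMonoidHom) ⊔ (S.map e.toMonoidHom) ≤ normalizer ((L.map e.toMonoidHom : Subgroup K) : Set K)) :
    L ⊔ S ≤ normalizer (L : Set G) := by
  intro x hx
  have h3 : e x ∈ normalizer ((L.map e.toMonoidHom : Subgroup K) : Set K) := by
    apply h
    rw [← Subgroup.map_sup]
    exact ⟨x, hx, rfl⟩
  rw [Subgroup.mem_normalizer_iff] at h3 ⊢
  intro y
  have h4 : ∀ z : G, z ∈ L ↔ e z ∈ L.map e.toMonoidHom := fun z =>
    ⟨fun hz => ⟨z, hz, rfl⟩, fun ⟨z', hz', he⟩ => e.injective he ▸ hz'⟩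
  rw [h4, h4, map_mul, map_mul, map_inv]
  exact h3 (e y)

theorem RowD.congr {P : ∀ (X : Type u) [Group X], Prop} {Q : ∀ (X : Type v) [Group X], Prop}
    (hP : ∀ (X : Type u) [Group X] (Y : Type v) [Group Y], (X ≃* Y) → Q Y → P X) {G : Type u} {K : Type v} [Group G] [Group K]
    [Finite G] (e : G ≃* K) (hK : RowD Q K) : RowD P G := by
  intro S L hL
  have h1 : L.map e.toMonoidHom ∈ calL ((H4.LfTrans.mapSylow e S : Subgroup K)) := by
    rw [H4.LfTrans.coe_mapSylow]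
    exact H4.LfTrans.map_mem_calL e hL
  obtain ⟨h2, h3⟩ := hK _ _ h1
  rw [H4.LfTrans.coe_mapSylow] at h2
  refine ⟨norm_map e h2, hP _ _ ?_ h3⟩
  exact QuotientGroup.congr _ _ (e.subgroupMap L) (Lib.Cores.map_equiv_pCore _ 2)

theorem RowD.of_one {P : ∀ (X : Type u) [Group X], Prop}
    (hP : ∀ (X : Type u) [Group X] (Y : Type u) [Group Y], (X ≃* Y) → P Y → P X) {G : Type u} [Group G] [Finite G]
    (S₀ : Sylow 2 G)
    (h : ∀ L ∈ calL (S₀ : Subgroup G), L ⊔ (S₀ : Subgroup G) ≤ normalizer (L : Set G) ∧ P (L ⧸ Cfsg.pCore 2 L)) :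
    RowD P G := by
  intro S L hL
  obtain ⟨g, hg⟩ := H4.LfTrans.exists_conj S S₀
  have h1 : L.map (MulAut.conj g).toMonoidHom ∈ calL (S₀ : Subgroup G) := by
    rw [hg]
    exact H4.LfTrans.map_mem_calL (MulAut.conj g) hL
  obtain ⟨h2, h3⟩ := h _ h1
  rw [hg] at h2
  refine ⟨norm_map (MulAut.conj g) h2, hP _ _ ?_ h3⟩
  exact QuotientGroup.congr _ _ ((MulAut.conj g).subgroupMap L) (Lib.Cores.map_equiv_pCore _ 2)

/-- `X` is `L₃(2)` or `Â₆` -/
def HeQ (X : Type u) [Group X] : Prop :=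
  Nonempty (X ≃* Matrix.ProjectiveSpecialLinearGroup (Fin 3) (ZMod 2)) ∨ IsHatA6 X

theorem HeQ.congr (X : Type u) [Group X] (Y : Type v) [Group Y] (e : X ≃* Y) (h : HeQ Y) : HeQ X := by
  rcases h with ⟨⟨f⟩⟩ | h
  · exact Or.inl ⟨e.trans f⟩
  · exact Or.inr (HatSix.HatIso.congr e.symm h)

/-- the involution centralizer of a group with `Hyp` -/
theorem centralizer_row {G : Type*} [Group G] [Finite G] {z : G} {ι : CC →* G} (hy : Hyp z ι) (T : Sylow 2 G)
    {L : Subgroup G} (hL : L ∈ calL (T : Subgroup G)) (hT : (T : Subgroup G) ≤ centralizer {z})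
    (hLz : L ≤ centralizer {z}) : L ⊔ (T : Subgroup G) ≤ normalizer (L : Set G) ∧ HeQ (L ⧸ Cfsg.pCore 2 L) := by
  let ψ : centralizer ({z} : Set G) →* L3 := toL3.comp hy.equiv.symm.toMonoidHom
  have hker : IsPGroup 2 ψ.ker := by
    have h1 : IsPGroup 2 toL3.ker := by
      rw [toL3_ker]
      have h2 : IsPGroup 2 QQ := IsPGroup.of_card (n := 7) (by rw [card_QQ]; norm_num)
      intro x
      obtain ⟨k, hk⟩ := h2 ⟨((x : CC) : L5), x.2⟩
      refine ⟨k, ?_⟩
      have h3 := congrArg Subtype.val hk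
      apply Subtype.ext
      apply Subtype.ext
      exact h3
    intro x
    have hx : hy.equiv.symm (x : centralizer ({z} : Set G)) ∈ toL3.ker := x.2
    obtain ⟨k, hk⟩ := h1 ⟨_, hx⟩
    refine ⟨k, ?_⟩
    have h3 : (hy.equiv.symm (x : centralizer ({z} : Set G))) ^ 2 ^ k = 1 := congrArg Subtype.val hk
    rw [← map_pow] at h3
    have h4 := (MulEquiv.map_eq_one_iff _).1 h3
    exact Subtype.ext h4
  have hd : Nat.card ψ.range ∣ 168 := by
    rw [← card_L3]
    exact Subgroup.card_subgroup_dvd_card _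
  obtain ⟨h1, -, h2, -⟩ := H5.Small.row168 T hL hT hLz ψ hker hd
  exact ⟨h1, Or.inl h2⟩

/-- **The row of the Held group.** -/
theorem row : RowD HeQ Cfsg.Spor.He := by
  obtain ⟨T, hT⟩ := exists_sylow hyp
  refine RowD.of_one HeQ.congr T ?_
  intro L hL
  have hne : Cfsg.pCore 2 ↥(L ⊔ (T : Subgroup Cfsg.Spor.He)) ≠ ⊥ := hL.2.2
  have hTH : (T : Subgroup Cfsg.Spor.He) ≤ L ⊔ (T : Subgroup Cfsg.Spor.He) := le_sup_right
  have hLH : L ≤ L ⊔ (T : Subgroup Cfsg.Spor.He) := le_sup_left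
  rcases HeWords.ctx.over hT hTH hne with h | h | h
  · exact centralizer_row hyp T hL (hTH.trans h) (hLH.trans h)
  · obtain ⟨h1, h2, -⟩ := HeFrames.frame1.row T hL (hTH.trans h) (hLH.trans h)
    exact ⟨h1, Or.inr h2⟩
  · obtain ⟨h1, h2, -⟩ := HeFrames.frame2.row T hL (hTH.trans h) (hLH.trans h)
    exact ⟨h1, Or.inr h2⟩

/-- **The row of a group isomorphic to the Held group.** -/
theorem row_he {G : Type u} [Group G] [Finite G] (h : Spor.IsoHe G) : RowD HeQ G := by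
  obtain ⟨e⟩ := h
  exact RowD.congr (fun X _ Y _ f hY => HeQ.congr X Y f hY) e row

theorem he_mem {G : Type u} [Group G] [Finite G] (h : Spor.IsoHe G) (T : Sylow 2 G) {L : Subgroup G}
    (hL : L ∈ calL (T : Subgroup G)) : (T : Subgroup G) ≤ normalizer (L : Set G) ∧
      (Nonempty ((L ⧸ Cfsg.pCore 2 L) ≃* Matrix.ProjectiveSpecialLinearGroup (Fin 3) (ZMod 2)) ∨
        IsHatA6 (L ⧸ Cfsg.pCore 2 L)) :=
  ⟨le_sup_right.trans (row_he h T L hL).1, (row_he h T L hL).2⟩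

end Cfsg.Agent.H6.HeRow
end

private theorem dce_66b179d65094 : _root_.True := by
  try have : _root_.True := by simp only [_root_.Cfsg.Agent.H6.HexW.b3.eq_1]
  try have : _root_.True := by simp only [_root_.Cfsg.Agent.H6.HexW.ew.eq_1]
  try have : _root_.True := by simp only [_root_.Cfsg.Agent.H6.HexW.b0.eq_1]
  try have : _root_.True := by simp only [_root_.Cfsg.Agent.H6.HexW.induct]
  try have : _root_.True := by simp only [_root_.Cfsg.Agent.H6.HexW.c0.eq_1]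
  try have : _root_.True := by simp only [_root_.Cfsg.Agent.H6.HexW.b4.eq_1]
  try have : _root_.True := by simp only [_root_.Cfsg.Agent.H6.HeWords.wv.eq_1]
  try have : _root_.True := by simp only [_root_.Cfsg.Agent.H6.HexW.e1.eq_1]
  try have : _root_.True := by simp only [_root_.Cfsg.Agent.H6.HeWords.cw.eq_1]
  try have : _root_.True := by simp only [_root_.Cfsg.Agent.H6.HexW.pf.eq_1]
  exact _root_.True.intro
end
end
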